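import Groth.Agent.L15.PullFlat.Tensor
import Groth.Agent.L15.ModTensor.Basic
import Mathlib.Algebra.Category.ModuleCat.Sheaf.PullbackFree
import Mathlib.CategoryTheory.Adjunction.Unique

/-! Naturality of the comparison of inverse images and tensor products; inverse image of the unit; invertible modules. -/

set_option autoImplicit false

universe u

open CategoryTheory MonoidalCategory CategoryTheory.Limits Opposite Groth.L00.ModSiteTensor Groth.L15.FlatCrit

noncomputable section

namespace Groth.L15.PullFlat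

open Groth.L15.ModTensor (tR tL)

variable {C : Type u} [SmallCategory C] {J : GrothendieckTopology C} {O : Sheaf J CommRingCat.{u}}

theorem tR_map_tmulS {A A' : ModSite.Mod O} (φ : A ⟶ A') (B : ModSite.Mod O) (V : C) (a : ModSite.sect A V)
    (b : ModSite.sect B V) :
    ((tR B).map φ).val.app (op V) (tmulS A B V a b) = tmulS A' B V (φ.val.app (op V) a) b :=
  congr(($((PresheafOfModules.sheafificationAdjunction (𝟙 (ModSite.ringSh O).obj)).unit.naturality
    ((preF O).map φ ▷ (preF O).obj B))).app (op V) (a ⊗ₜ[O.obj.obj (op V)] b)).symm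

/-- Maps out of a tensor product agree if they agree on products. -/
theorem ten_hom_ext {A B P : ModSite.Mod O} {α β' : ten A B ⟶ P}
    (h : ∀ V a b, α.val.app (op V) (tmulS A B V a b) = β'.val.app (op V) (tmulS A B V a b)) : α = β' := by
  apply ((shfAdj O).homEquiv _ P).injective
  refine PresheafOfModules.hom_ext fun V => ModuleCat.MonoidalCategory.tensor_ext fun a b => ?_
  have e : ∀ γ : ten A B ⟶ P, ((shfAdj O).homEquiv _ P γ).app V (a ⊗ₜ[O.obj.obj V] b) =
      γ.val.app V (tmulS A B V.unop a b) := fun γ => by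
    rw [Adjunction.homEquiv_unit]
    rfl
  exact ((e α).trans (h V.unop a b)).trans (e β').symm

variable {D : Type u} [SmallCategory D] {K : GrothendieckTopology D} {O_C : Sheaf J CommRingCat.{u}}
  {O_D : Sheaf K CommRingCat.{u}} (f : ModSite.RMor O_C O_D)

theorem pull_map_etaM {M M' : ModSite.Mod O_D} (φ : M ⟶ M') (V : D) (m : ModSite.sect M V) :
    (f.pull.map φ).val.app (op (f.fn.obj V)) (etaM f M V m) = etaM f M' V (φ.val.app (op V) m) :=
  congr(($(f.adj.unit.naturality φ)).val.app (op V) m).symm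

theorem pull_hom_ext {M : ModSite.Mod O_D} {P : ModSite.Mod O_C} {α β' : f.pull.obj M ⟶ P}
    (h : ∀ V m, α.val.app (op (f.fn.obj V)) (etaM f M V m) = β'.val.app (op (f.fn.obj V)) (etaM f M V m)) :
    α = β' := by
  apply (f.adj.homEquiv M P).injective
  rw [Adjunction.homEquiv_unit, Adjunction.homEquiv_unit]
  exact SheafOfModules.Hom.ext (PresheafOfModules.hom_ext fun V => ModuleCat.hom_ext (LinearMap.ext fun m => h V.unop m))

theorem mu_etaM (M N : ModSite.Mod O_D) (V : D) (m : ModSite.sect M V) (n : ModSite.sect N V) :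
    (mu f M N).val.app (op (f.fn.obj V)) (etaM f (ten M N) V (tmulS M N V m n)) =
      tmulS (f.pull.obj M) (f.pull.obj N) (f.fn.obj V) (etaM f M V m) (etaM f N V n) := by
  have h := mu_beta f M N (⟨V, 𝟙 _⟩ : Pt f.fn (f.fn.obj V)) m n
  have e : ∀ (A : ModSite.Mod O_C) (z : ModSite.sect A (f.fn.obj V)), rs A (𝟙 (f.fn.obj V)) z = z := fun A z => by
    simp [rs]
    rfl
  simpa only [beta, e] using h

/-- Inverse image commutes with tensoring, naturally. -/
def tRPullIso (N : ModSite.Mod O_D) : tR N ⋙ f.pull ≅ f.pull ⋙ tR (f.pull.obj N) :=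
  NatIso.ofComponents (fun M => pullTenIso f M N) fun {M M'} φ => by
    show f.pull.map ((tR N).map φ) ≫ mu f M' N = mu f M N ≫ (tR (f.pull.obj N)).map (f.pull.map φ)
    apply (f.adj.homEquiv _ _).injective
    refine ten_hom_ext fun V a b => ?_
    rw [Adjunction.homEquiv_unit, Adjunction.homEquiv_unit]
    show (mu f M' N).val.app (op (f.fn.obj V)) ((f.pull.map ((tR N).map φ)).val.app (op (f.fn.obj V))
        (etaM f (ten M N) V (tmulS M N V a b))) =
      ((tR (f.pull.obj N)).map (f.pull.map φ)).val.app (op (f.fn.obj V))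
        ((mu f M N).val.app (op (f.fn.obj V)) (etaM f (ten M N) V (tmulS M N V a b)))
    refine (congrArg ((mu f M' N).val.app (op (f.fn.obj V))) (pull_map_etaM f ((tR N).map φ) V _)).trans ?_
    refine Eq.trans ?_ (congrArg (((tR (f.pull.obj N)).map (f.pull.map φ)).val.app (op (f.fn.obj V)))
      (mu_etaM f M N V a b)).symm
    refine (congrArg (fun z => (mu f M' N).val.app (op (f.fn.obj V)) (etaM f (ten M' N) V z)) (tR_map_tmulS φ N V a b)).trans ?_
    refine (mu_etaM f M' N V _ b).trans ?_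
    refine Eq.trans ?_ (tR_map_tmulS (f.pull.map φ) (f.pull.obj N) (f.fn.obj V) (etaM f M V a) (etaM f N V b)).symm
    exact congrArg (fun z => tmulS (f.pull.obj M') (f.pull.obj N) (f.fn.obj V) z (etaM f N V b)) (pull_map_etaM f φ V a).symm

/-- The inverse image of the structure sheaf maps to the structure sheaf. -/
def epsUnit : f.pull.obj (ModSite.unit O_D) ⟶ ModSite.unit O_C :=
  (f.adj.homEquiv (ModSite.unit O_D) (ModSite.unit O_C)).symm (SheafOfModules.unitToPushforwardObjUnit f.sharpR)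

theorem epsUnit_beta {U : C} (a : Pt f.fn U) (r : O_D.obj.obj (op a.1)) :
    (epsUnit f).val.app (op U) (beta f (ModSite.unit O_D) a r) = rr O_C a.2 (sr f a.1 r) := by
  refine (Groth.L15.ExtSupp.res_natural (epsUnit f) a.2 _).symm.trans ?_
  refine congrArg (rs (ModSite.unit O_C) a.2) ?_
  have e : f.adj.unit.app (ModSite.unit O_D) ≫ f.push.map (epsUnit f) = SheafOfModules.unitToPushforwardObjUnit f.sharpR :=
    (f.adj.homEquiv_unit _ _ (epsUnit f)).symm.trans (Equiv.apply_symm_apply _ _)
  exact congr(($e).val.app (op a.1) r)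

theorem beta_unit {U : C} (a : Pt f.fn U) (r : O_D.obj.obj (op a.1)) :
    beta f (ModSite.unit O_D) a r = rr O_C a.2 (sr f a.1 r) • beta f (ModSite.unit O_D) a (1 : O_D.obj.obj (op a.1)) := by
  refine Eq.trans ?_ (rs_smul (f.pull.obj (ModSite.unit O_D)) a.2 (sr f a.1 r) _)
  refine congrArg (rs (f.pull.obj (ModSite.unit O_D)) a.2) ?_
  refine Eq.trans ?_ (etaM_smul f (ModSite.unit O_D) a.1 r (1 : O_D.obj.obj (op a.1)))
  exact congrArg (etaM f (ModSite.unit O_D) a.1) (mul_one r).symm

theorem isIso_epsUnit : IsIso (epsUnit f) := by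
  classical
  haveI : PreservesFiniteLimits (Groth.L10.SiteFr.pullT (J := J) K f.fn) := f.exact
  have key : ∀ (U : C) (w : ModSite.sect (f.pull.obj (ModSite.unit O_D)) U), (epsUnit f).val.app (op U) w = 0 → w = 0 := by
    intro U w hw
    obtain ⟨S, hS, hSd⟩ := exists_local_sum f (ModSite.unit O_D) w
    refine Groth.L15.ExtSupp.sect_ext (f.pull.obj (ModSite.unit O_D)) S hS w 0 fun U₁ q₁ hq₁ => ?_
    refine Eq.trans ?_ (map_zero (rs (f.pull.obj (ModSite.unit O_D)) q₁)).symm
    show rs (f.pull.obj (ModSite.unit O_D)) q₁ w = 0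
    obtain ⟨z, hz⟩ := hSd q₁ hq₁
    obtain ⟨T, hT, hTd⟩ := exists_cone (J := J) K U₁ (z.support.image fun x => x.1)
    refine Groth.L15.ExtSupp.sect_ext (f.pull.obj (ModSite.unit O_D)) T hT _ 0 fun U₂ q₂ hq₂ => ?_
    refine Eq.trans ?_ (map_zero (rs (f.pull.obj (ModSite.unit O_D)) q₂)).symm
    obtain ⟨V, g, k, hk⟩ := hTd q₂ hq₂
    have he := lc_move f q₂ z z.support (Finset.Subset.refl _) g
      (fun x hx => k x.1 (Finset.mem_image_of_mem _ hx)) (fun x hx => hk _ _)
    show rs (f.pull.obj (ModSite.unit O_D)) q₂ _ = 0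
    rw [hz, he]
    have h0 : (epsUnit f).val.app (op U₂) (rs (f.pull.obj (ModSite.unit O_D)) (q₂ ≫ q₁) w) = 0 :=
      (Groth.L15.ExtSupp.res_natural (epsUnit f) (q₂ ≫ q₁) w).symm.trans
        ((congrArg _ hw).trans (map_zero (rs (ModSite.unit O_C) (q₂ ≫ q₁))))
    rw [← rs_rs, hz, he] at h0
    rw [Finset.sum_congr rfl fun x _ => (congrArg (fun v => rr O_C q₂ (z x.1) • v) (beta_unit f ⟨V, g⟩ _)).trans
      (smul_smul _ _ _), ← Finset.sum_smul]
    refine Eq.trans (congrArg (fun t : O_C.obj.obj (op U₂) => t • beta f (ModSite.unit O_D) ⟨V, g⟩ (1 : O_D.obj.obj (op V))) ?_)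
      (zero_smul _ _)
    refine Eq.trans ?_ h0
    refine Eq.trans ?_ (map_sum ((epsUnit f).val.app (op U₂)).hom _ _).symm
    refine Finset.sum_congr rfl fun x _ => ?_
    refine Eq.trans ?_ (map_smul ((epsUnit f).val.app (op U₂)).hom _ _).symm
    exact congrArg (fun v : O_C.obj.obj (op U₂) => rr O_C q₂ (z x.1) * v) (epsUnit_beta f ⟨V, g⟩ _).symm
  haveI : Mono (epsUnit f) := ⟨fun {W} p q hpq => SheafOfModules.Hom.ext (PresheafOfModules.hom_ext fun T => by
    refine ModuleCat.hom_ext (LinearMap.ext fun z => ?_)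
    rw [← sub_eq_zero]
    apply key T.unop
    refine (map_sub ((epsUnit f).val.app T).hom _ _).trans ?_
    rw [sub_eq_zero]
    exact congr(($hpq).val.app T z))⟩
  haveI : Epi (epsUnit f) := by
    refine (SheafOfModules.toSheaf.{u} _).epi_of_epi_map ?_
    refine (Sheaf.isLocallySurjective_iff_epi' _ _).1 ⟨fun {T} y => ?_⟩
    obtain ⟨S, hS, hSd⟩ := exists_point (J := J) K f.fn T
    refine J.superset_covering (fun W q hq => ?_) hS
    obtain ⟨V, ⟨g⟩⟩ := hSd q hq
    refine ⟨(sc (rs (ModSite.unit O_C) q y)) • beta f (ModSite.unit O_D) ⟨V, g⟩ (1 : O_D.obj.obj (op V)), ?_⟩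
    refine (map_smul ((epsUnit f).val.app (op W)).hom (sc (rs (ModSite.unit O_C) q y)) _).trans ?_
    refine (congrArg (fun v : O_C.obj.obj (op W) => sc (rs (ModSite.unit O_C) q y) * v) (epsUnit_beta f ⟨V, g⟩ _)).trans ?_
    rw [map_one, map_one]
    exact mul_one _
  exact isIso_of_mono_of_epi _

/-- The inverse image of the structure sheaf is the structure sheaf. -/
def pullUnitIso : f.pull.obj (ModSite.unit O_D) ≅ ModSite.unit O_C :=
  @asIso _ _ _ _ (epsUnit f) (isIso_epsUnit f)

end Groth.L15.PullFlat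

namespace Groth.L15.ModTensor

variable {C : Type u} [SmallCategory C] {J : GrothendieckTopology C} {O : Sheaf J CommRingCat.{u}}

/-- Tensoring with an invertible module is an equivalence. -/
def equivOfInverse (L L' : ModSite.Mod O) (e : ten L L' ≅ ModSite.unit O) : ModSite.Mod O ≌ ModSite.Mod O :=
  CategoryTheory.Equivalence.mk (tR L) (tR L')
    ((assocIso L L') ≪≫ (ModSite.tensorBi O).flip.mapIso e ≪≫ unitIso).symm
    (assocIso L' L ≪≫ (ModSite.tensorBi O).flip.mapIso ((braidIso L').app L ≪≫ e) ≪≫ unitIso)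

theorem isEquivalence_of_inverse (L L' : ModSite.Mod O) (e : ten L L' ≅ ModSite.unit O) : (tL L).IsEquivalence :=
  haveI : (tR L).IsEquivalence := (equivOfInverse L L' e).isEquivalence_functor
  Functor.isEquivalence_of_iso (braidIso L).symm

/-- An invertible module has an inverse. -/
theorem exists_inverse (L : ModSite.Mod O) [(tL L).IsEquivalence] : ∃ L', Nonempty (ten L L' ≅ ModSite.unit O) :=
  ⟨(tL L).objPreimage (ModSite.unit O), ⟨(tL L).objObjPreimageIso (ModSite.unit O)⟩⟩

end Groth.L15.ModTensor
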