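import Groth.Agent.L15.PullFlat.Gen

/-! Inverse images of flat modules are flat. -/

set_option autoImplicit false

universe u

open CategoryTheory CategoryTheory.Limits Opposite Groth.L15.FlatCrit

noncomputable section

namespace Groth.L15.PullFlat

variable {C D : Type u} [SmallCategory C] [SmallCategory D] {J : GrothendieckTopology C}
  {K : GrothendieckTopology D} {O_C : Sheaf J CommRingCat.{u}} {O_D : Sheaf K CommRingCat.{u}}
  (f : ModSite.RMor O_C O_D) (M : ModSite.Mod O_D)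

theorem beta_move {U U' : C} (q : U' ⟶ U) (a : Pt f.fn U) (m : ModSite.sect M a.1) {V : D}
    (g : U' ⟶ f.fn.obj V) (k : V ⟶ a.1) (e : g ≫ f.fn.map k = q ≫ a.2) :
    rs (f.pull.obj M) q (beta f M a m) = beta f M ⟨V, g⟩ (rs M k m) := by
  show rs _ q (rs _ a.2 _) = rs _ g (etaM f M V (rs M k m))
  rw [← etaM_res, rs_rs, rs_rs, e]

theorem exists_local_sums {U : C} : ∀ {n : ℕ} (s : Fin n → ModSite.sect (f.pull.obj M) U),
    ∃ S ∈ J U, ∀ ⦃U' : C⦄ (q : U' ⟶ U), S q → ∃ z : Fin n → Free f M U',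
      ∀ j, rs (f.pull.obj M) q (s j) = lc f M U' (z j)
  | 0, _ => ⟨⊤, J.top_mem U, fun _ _ _ => ⟨fun j => j.elim0, fun j => j.elim0⟩⟩
  | n + 1, s => by
    obtain ⟨S, hS, hSd⟩ := exists_local_sums (fun i : Fin n => s i.castSucc)
    refine exists_sieve_bind _ hS fun U' q hq => ?_
    obtain ⟨z, hz⟩ := hSd q hq
    obtain ⟨T, hT, hTd⟩ := exists_local_sum f M (rs (f.pull.obj M) q (s (Fin.last n)))
    refine ⟨T, hT, fun U'' r hr => ?_⟩
    obtain ⟨w, hw⟩ := hTd r hr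
    refine ⟨Fin.lastCases w fun i => rho f M r (z i), fun j => ?_⟩
    induction j using Fin.lastCases with
    | last =>
      simp only [Fin.lastCases_last]
      rw [← rs_rs, hw]
    | cast i =>
      simp only [Fin.lastCases_castSucc]
      rw [lc_rho, ← hz, rs_rs]

/-- Inverse images of modules whose relations are locally trivial have the same property. -/
theorem hasTrivialRelations_pull (hM : HasTrivialRelations M) : HasTrivialRelations (f.pull.obj M) := by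
  classical
  haveI : PreservesFiniteLimits (Groth.L10.SiteFr.pullT (J := J) K f.fn) := f.exact
  intro U n a s hrel
  obtain ⟨S₁, hS₁, hS₁d⟩ := exists_local_sums f M s
  refine exists_sieve_bind _ hS₁ fun U₁ q₁ hq₁ => ?_
  obtain ⟨z, hz⟩ := hS₁d q₁ hq₁
  let X : Finset (Gn f M U₁) := Finset.univ.biUnion fun j => (z j).support
  obtain ⟨S₂, hS₂, hS₂d⟩ := exists_cone (J := J) K U₁ (X.image fun x => x.1)
  refine exists_sieve_bind (fun U' (q : U' ⟶ U₁) => ∃ (l : ℕ) (t : Fin l → ModSite.sect (f.pull.obj M) U')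
      (c : Fin n → Fin l → O_C.obj.obj (op U')),
        (∀ j, rs (f.pull.obj M) (q ≫ q₁) (s j) = ∑ k, c j k • t k) ∧
          ∀ k, ∑ j, c j k * rr O_C (q ≫ q₁) (a j) = 0) hS₂ fun U₂ q₂ hq₂ => ?_
  obtain ⟨V, g, k, hk⟩ := hS₂d q₂ hq₂
  let m : X → ModSite.sect M V := fun x => rs M (k x.1.1 (Finset.mem_image_of_mem _ x.2)) x.1.2
  let c₂ : Fin n → X → O_C.obj.obj (op U₂) := fun j x => rr O_C q₂ (z j x.1)
  have hs₂ : ∀ j, rs (f.pull.obj M) (q₂ ≫ q₁) (s j) = ∑ x, c₂ j x • beta f M ⟨V, g⟩ (m x) := fun j => by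
    rw [← rs_rs, hz, lc, Finsupp.linearCombination_apply, Finsupp.sum_of_support_subset (s := X)]
    · rw [← X.sum_coe_sort, map_sum]
      refine Finset.sum_congr rfl fun x _ => ?_
      rw [rs_smul, beta_move f M q₂ x.1.1 x.1.2 g (k x.1.1 (Finset.mem_image_of_mem _ x.2)) (hk _ _)]
    · exact fun x hx => Finset.mem_biUnion.2 ⟨j, Finset.mem_univ j, hx⟩
    · exact fun x _ => zero_smul _ _
  have h0 : ∑ x, (∑ j, rr O_C (q₂ ≫ q₁) (a j) * c₂ j x) • beta f M ⟨V, g⟩ (m x) = 0 := by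
    have h := congrArg (rs (f.pull.obj M) (q₂ ≫ q₁)) hrel
    rw [map_sum, map_zero] at h
    refine Eq.trans ?_ h
    simp only [rs_smul, hs₂, Finset.smul_sum, smul_smul, Finset.sum_smul]
    exact Finset.sum_comm
  obtain ⟨S₃, hS₃, hS₃d⟩ := exists_local_zero f M ⟨V, g⟩ m _ h0
  refine exists_sieve_bind _ hS₃ fun U₃ q₃ hq₃ => ?_
  obtain ⟨V₃, g₃, k₃, n₃, p, t', idx, rl, y, hk₃, hrel₃, ht', hy⟩ := hS₃d q₃ hq₃
  obtain ⟨S₄, hS₄, hS₄d⟩ := trivial_relations M hM p V₃ n₃ rl t' hrel₃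
  obtain ⟨R, hR, hRd⟩ := cover_preserve (J := J) (u := f.fn) hS₄ g₃
  refine ⟨R, hR, fun U₄ q₄ hq₄ => ?_⟩
  obtain ⟨W, h, g₄, hh, hg₄⟩ := hRd q₄ hq₄
  obtain ⟨l, T, A, hA1, hA2⟩ := hS₄d h hh
  let At : Fin n₃ → Fin l → O_C.obj.obj (op U₄) := fun i e => rr O_C g₄ (sr f W (A i e))
  let c₄ : Fin n → X → O_C.obj.obj (op U₄) := fun j x => rr O_C (q₄ ≫ q₃) (c₂ j x)
  refine ⟨l, fun e => beta f M ⟨W, g₄⟩ (T e), fun j e => ∑ x, c₄ j x * At (idx x) e, fun j => ?_, fun e => ?_⟩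
  · have hb : ∀ x, rs (f.pull.obj M) (q₄ ≫ q₃) (beta f M ⟨V, g⟩ (m x)) =
        ∑ e, At (idx x) e • beta f M ⟨W, g₄⟩ (T e) := fun x => by
      rw [← rs_rs, beta_move f M q₃ ⟨V, g⟩ (m x) g₃ k₃ hk₃, ← ht',
        beta_move f M q₄ ⟨V₃, g₃⟩ (t' (idx x)) g₄ h hg₄, hA1]
      simp only [beta, map_sum, etaM_smul, rs_smul, At]
    calc rs (f.pull.obj M) (((q₄ ≫ q₃) ≫ q₂) ≫ q₁) (s j)
        = rs (f.pull.obj M) (q₄ ≫ q₃) (rs (f.pull.obj M) (q₂ ≫ q₁) (s j)) := by rw [rs_rs]; simp only [Category.assoc]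
      _ = _ := by
        simp only [hs₂, map_sum, rs_smul, hb, Finset.smul_sum, smul_smul, Finset.sum_smul, c₄]
        exact Finset.sum_comm
  · have hswap : ∑ j, (∑ x, c₄ j x * At (idx x) e) * rr O_C (((q₄ ≫ q₃) ≫ q₂) ≫ q₁) (a j) =
        ∑ i, At i e * rr O_C q₄ (∑ x, if idx x = i then rr O_C q₃ (∑ j, rr O_C (q₂ ≫ q₁) (a j) * c₂ j x) else 0) := by
      simp only [map_sum, apply_ite (rr O_C q₄), map_zero, rr_rr, Finset.mul_sum, mul_ite, mul_zero]
      rw [Finset.sum_comm]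
      simp only [Finset.sum_ite_eq, Finset.mem_univ, if_true, Finset.sum_mul, map_mul, rr_rr, c₄]
      rw [Finset.sum_comm]
      refine Finset.sum_congr rfl fun j _ => Finset.sum_congr rfl fun x _ => ?_
      simp only [Category.assoc]
      ring
    rw [hswap]
    rw [Finset.sum_congr rfl fun i _ => congrArg (fun w => At i e * rr O_C q₄ w) (hy i)]
    simp only [map_sum, map_mul, Finset.mul_sum]
    rw [Finset.sum_comm]
    refine Finset.sum_eq_zero fun r _ => ?_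
    have e1 : ∀ i, At i e * (rr O_C q₄ (rr O_C g₃ (sr f V₃ (rl r i))) * rr O_C q₄ (y r)) =
        rr O_C g₄ (sr f W (A i e * rr O_D h (rl r i))) * rr O_C q₄ (y r) := fun i => by
      rw [← mul_assoc, map_mul, map_mul, sr_natural', hg₄, rr_rr]
    rw [Finset.sum_congr rfl fun i _ => e1 i, ← Finset.sum_mul, ← map_sum, ← map_sum, hA2 r e, map_zero, map_zero,
      zero_mul]

end Groth.L15.PullFlat
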