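import Groth.Agent.L15.PullFlat.Flat

/-! Inverse image commutes with tensor products of sheaves of modules. -/

set_option autoImplicit false

universe u

open CategoryTheory MonoidalCategory CategoryTheory.Limits Opposite Groth.L00.ModSiteTensor Groth.L15.FlatCrit
open TensorProduct (tmul)
open scoped TensorProduct

noncomputable section

namespace Groth.L15.PullFlat

variable {C : Type u} [SmallCategory C] {J : GrothendieckTopology C} {O : Sheaf J CommRingCat.{u}}

/-- The tensor product of two sheaves of modules. -/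
abbrev ten (A B : ModSite.Mod O) : ModSite.Mod O := ((ModSite.tensorBi O).obj A).obj B

/-- The tensor product of two sections, as a section of the tensor product. -/
def tmulS (A B : ModSite.Mod O) (V : C) (a : ModSite.sect A V) (b : ModSite.sect B V) : ModSite.sect (ten A B) V :=
  (Groth.L00.ModSiteTensor.unit ((preF O).obj A ⊗ (preF O).obj B)).app (op V) (a ⊗ₜ[O.obj.obj (op V)] b)

/-- The unit map of the tensor product, additively. -/
abbrev unitT (A B : ModSite.Mod O) (V : C) :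
    ((preF O).obj A ⊗ (preF O).obj B).obj (op V) →+ ModSite.sect (ten A B) V :=
  ((Groth.L00.ModSiteTensor.unit ((preF O).obj A ⊗ (preF O).obj B)).app (op V)).hom.toAddMonoidHom

theorem tmulS_eq (A B : ModSite.Mod O) (V : C) (a : ModSite.sect A V) (b : ModSite.sect B V) :
    tmulS A B V a b = unitT A B V (a ⊗ₜ[O.obj.obj (op V)] b) := rfl

theorem tmulS_add_left (A B : ModSite.Mod O) (V : C) (a a' : ModSite.sect A V) (b : ModSite.sect B V) :
    tmulS A B V (a + a') b = tmulS A B V a b + tmulS A B V a' b := by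
  rw [tmulS_eq, tmulS_eq, tmulS_eq, ← map_add]
  exact congrArg _ (TensorProduct.add_tmul a a' b)

theorem tmulS_add_right (A B : ModSite.Mod O) (V : C) (a : ModSite.sect A V) (b b' : ModSite.sect B V) :
    tmulS A B V a (b + b') = tmulS A B V a b + tmulS A B V a b' := by
  rw [tmulS_eq, tmulS_eq, tmulS_eq, ← map_add]
  exact congrArg _ (TensorProduct.tmul_add a b b')

theorem tmulS_smul_left (A B : ModSite.Mod O) (V : C) (r : O.obj.obj (op V)) (a : ModSite.sect A V)
    (b : ModSite.sect B V) : tmulS A B V (r • a) b = r • tmulS A B V a b := by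
  refine Eq.trans ?_ (map_smul ((Groth.L00.ModSiteTensor.unit ((preF O).obj A ⊗ (preF O).obj B)).app (op V)).hom r _)
  show (Groth.L00.ModSiteTensor.unit ((preF O).obj A ⊗ (preF O).obj B)).app (op V) _ = _
  exact congrArg ((Groth.L00.ModSiteTensor.unit ((preF O).obj A ⊗ (preF O).obj B)).app (op V))
    (TensorProduct.smul_tmul' (R := O.obj.obj (op V)) r a b).symm

theorem tmulS_smul_right (A B : ModSite.Mod O) (V : C) (r : O.obj.obj (op V)) (a : ModSite.sect A V)
    (b : ModSite.sect B V) : tmulS A B V a (r • b) = r • tmulS A B V a b := by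
  refine Eq.trans ?_ (map_smul ((Groth.L00.ModSiteTensor.unit ((preF O).obj A ⊗ (preF O).obj B)).app (op V)).hom r _)
  show (Groth.L00.ModSiteTensor.unit ((preF O).obj A ⊗ (preF O).obj B)).app (op V) _ = _
  exact congrArg ((Groth.L00.ModSiteTensor.unit ((preF O).obj A ⊗ (preF O).obj B)).app (op V))
    ((TensorProduct.smul_tmul (R := O.obj.obj (op V)) r a b).symm.trans
      (TensorProduct.smul_tmul' (R := O.obj.obj (op V)) r a b).symm)

theorem tmulS_res (A B : ModSite.Mod O) {V W : C} (h : W ⟶ V) (a : ModSite.sect A V) (b : ModSite.sect B V) :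
    rs (ten A B) h (tmulS A B V a b) = tmulS A B W (rs A h a) (rs B h b) :=
  (PresheafOfModules.naturality_apply (Groth.L00.ModSiteTensor.unit ((preF O).obj A ⊗ (preF O).obj B)) h.op _).symm.trans
    (congrArg _ (PresheafOfModules.Monoidal.tensorObj_map_tmul h.op a b))

theorem exists_unitT_sum (A B : ModSite.Mod O) {V : C} (p : ((preF O).obj A ⊗ (preF O).obj B).obj (op V)) :
    ∃ (n : ℕ) (x : Fin n → ModSite.sect A V) (y : Fin n → ModSite.sect B V),
      unitT A B V p = ∑ k, tmulS A B V (x k) (y k) := by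
  obtain ⟨n, x, y, rfl⟩ := exists_sum A B p
  exact ⟨n, x, y, map_sum (unitT A B V) _ _⟩

theorem tmulS_sum_sum (A B : ModSite.Mod O) (V : C) {ι κ : Type u} [Fintype ι] [Fintype κ]
    (c : ι → O.obj.obj (op V)) (x : ι → ModSite.sect A V) (d : κ → O.obj.obj (op V)) (y : κ → ModSite.sect B V) :
    tmulS A B V (∑ a, c a • x a) (∑ b, d b • y b) = ∑ a, ∑ b, tmulS A B V ((c a * d b) • x a) (y b) := by
  let L : ModSite.sect B V → (ModSite.sect A V →+ ModSite.sect (ten A B) V) := fun v =>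
    AddMonoidHom.mk' (fun u => tmulS A B V u v) fun u u' => tmulS_add_left A B V u u' v
  let R : ModSite.sect A V → (ModSite.sect B V →+ ModSite.sect (ten A B) V) := fun u =>
    AddMonoidHom.mk' (fun v => tmulS A B V u v) fun v v' => tmulS_add_right A B V u v v'
  refine (map_sum (L (∑ b, d b • y b)) _ _).trans (Finset.sum_congr rfl fun a _ => ?_)
  refine (map_sum (R (c a • x a)) _ _).trans (Finset.sum_congr rfl fun b _ => ?_)
  show tmulS A B V (c a • x a) (d b • y b) = _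
  rw [tmulS_smul_right, ← tmulS_smul_left, smul_smul, mul_comm]

variable {D : Type u} [SmallCategory D] {K : GrothendieckTopology D} {O_C : Sheaf J CommRingCat.{u}}
  {O_D : Sheaf K CommRingCat.{u}} (f : ModSite.RMor O_C O_D)

/-- A combination of basic sections which vanishes keeps vanishing after a natural linear map of the entries. -/
theorem comb_map_eq_zero {M Q : ModSite.Mod O_D} {U : C} (a : Pt f.fn U) {ι : Type u} [Fintype ι]
    (m : ι → ModSite.sect M a.1) (c : ι → O_C.obj.obj (op U))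
    (φ : ∀ W, (W ⟶ a.1) → (ModSite.sect M W →+ ModSite.sect Q W))
    (hsmul : ∀ W k (r : O_D.obj.obj (op W)) x, φ W k (r • x) = r • φ W k x)
    (hres : ∀ {W W'} (k : W ⟶ a.1) (h : W' ⟶ W) x, φ W' (h ≫ k) (rs M h x) = rs Q h (φ W k x))
    (h0 : ∑ i, c i • beta f M a (m i) = 0) :
    ∑ i, c i • beta f Q a (φ a.1 (𝟙 _) (m i)) = 0 := by
  classical
  obtain ⟨S, hS, hSd⟩ := exists_local_zero f M a m c h0
  refine Groth.L15.ExtSupp.sect_ext (f.pull.obj Q) S hS _ 0 fun U' q hq => ?_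
  obtain ⟨V, g, k, n, p, t', idx, r, y, hk, hrel, ht', hy⟩ := hSd q hq
  refine Eq.trans ?_ (map_zero (rs (f.pull.obj Q) q)).symm
  show rs (f.pull.obj Q) q _ = 0
  have hb : ∀ i, rs (f.pull.obj Q) q (beta f Q a (φ a.1 (𝟙 _) (m i))) = beta f Q ⟨V, g⟩ (φ V k (t' (idx i))) :=
    fun i => by
      rw [beta_move f Q q a _ g k hk, ← hres, Category.comp_id, ht']
  simp only [map_sum, rs_smul, hb]
  calc ∑ i, rr O_C q (c i) • beta f Q ⟨V, g⟩ (φ V k (t' (idx i)))
      = ∑ j, (∑ i, if idx i = j then rr O_C q (c i) else 0) • beta f Q ⟨V, g⟩ (φ V k (t' j)) := by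
        simp only [Finset.sum_smul, ite_smul, zero_smul]
        rw [Finset.sum_comm]
        simp
    _ = ∑ l, y l • beta f Q ⟨V, g⟩ (φ V k (∑ j, r l j • t' j)) := by
        simp only [hy, Finset.sum_smul, map_sum, hsmul, beta, etaM_smul, rs_smul, Finset.smul_sum, smul_smul]
        rw [Finset.sum_comm]
        simp only [mul_comm]
    _ = 0 := by simp only [hrel, map_zero, beta, smul_zero, Finset.sum_const_zero]

theorem comb_map_eq {M Q : ModSite.Mod O_D} {U : C} (a : Pt f.fn U) {ι κ : Type u} [Fintype ι] [Fintype κ]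
    (m : ι → ModSite.sect M a.1) (c : ι → O_C.obj.obj (op U))
    (m' : κ → ModSite.sect M a.1) (c' : κ → O_C.obj.obj (op U))
    (φ : ∀ W, (W ⟶ a.1) → (ModSite.sect M W →+ ModSite.sect Q W))
    (hsmul : ∀ W k (r : O_D.obj.obj (op W)) x, φ W k (r • x) = r • φ W k x)
    (hres : ∀ {W W'} (k : W ⟶ a.1) (h : W' ⟶ W) x, φ W' (h ≫ k) (rs M h x) = rs Q h (φ W k x))
    (h0 : ∑ i, c i • beta f M a (m i) = ∑ i, c' i • beta f M a (m' i)) :
    ∑ i, c i • beta f Q a (φ a.1 (𝟙 _) (m i)) = ∑ i, c' i • beta f Q a (φ a.1 (𝟙 _) (m' i)) := by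
  have h := comb_map_eq_zero f a (Sum.elim m m') (Sum.elim c fun i => -c' i) φ hsmul hres (by
    rw [Fintype.sum_sum_type]
    simp only [Sum.elim_inl, Sum.elim_inr, neg_smul, Finset.sum_neg_distrib, ← sub_eq_add_neg]
    exact sub_eq_zero.2 h0)
  rw [Fintype.sum_sum_type] at h
  simp only [Sum.elim_inl, Sum.elim_inr, neg_smul, Finset.sum_neg_distrib, ← sub_eq_add_neg] at h
  exact sub_eq_zero.1 h

variable (M N : ModSite.Mod O_D)

theorem comb_tmul_left {U : C} (a : Pt f.fn U) {ι κ : Type u} [Fintype ι] [Fintype κ]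
    (m : ι → ModSite.sect M a.1) (c : ι → O_C.obj.obj (op U)) (m' : κ → ModSite.sect M a.1)
    (c' : κ → O_C.obj.obj (op U)) (n : ModSite.sect N a.1)
    (h : ∑ i, c i • beta f M a (m i) = ∑ i, c' i • beta f M a (m' i)) :
    ∑ i, c i • beta f (ten M N) a (tmulS M N _ (m i) n) = ∑ i, c' i • beta f (ten M N) a (tmulS M N _ (m' i) n) := by
  have := comb_map_eq f a m c m' c'
    (fun W k => AddMonoidHom.mk' (fun x => tmulS M N W x (rs N k n)) fun x y => tmulS_add_left M N W x y _)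
    (fun W k r x => tmulS_smul_left M N W r x _)
    (fun {W W'} k e x => by
      show tmulS M N W' (rs M e x) (rs N (e ≫ k) n) = rs (ten M N) e (tmulS M N W x (rs N k n))
      rw [tmulS_res, rs_rs]) h
  have e : rs N (𝟙 a.1) n = n := by simp [rs]; rfl
  simpa only [AddMonoidHom.mk'_apply, e] using this

theorem comb_tmul_right {U : C} (a : Pt f.fn U) {ι κ : Type u} [Fintype ι] [Fintype κ]
    (n : ι → ModSite.sect N a.1) (c : ι → O_C.obj.obj (op U)) (n' : κ → ModSite.sect N a.1)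
    (c' : κ → O_C.obj.obj (op U)) (m : ModSite.sect M a.1)
    (h : ∑ i, c i • beta f N a (n i) = ∑ i, c' i • beta f N a (n' i)) :
    ∑ i, c i • beta f (ten M N) a (tmulS M N _ m (n i)) = ∑ i, c' i • beta f (ten M N) a (tmulS M N _ m (n' i)) := by
  have := comb_map_eq f a n c n' c'
    (fun W k => AddMonoidHom.mk' (fun x => tmulS M N W (rs M k m) x) fun x y => tmulS_add_right M N W _ x y)
    (fun W k r x => tmulS_smul_right M N W r _ x)
    (fun {W W'} k e x => by
      show tmulS M N W' (rs M (e ≫ k) m) (rs N e x) = rs (ten M N) e (tmulS M N W (rs M k m) x)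
      rw [tmulS_res, rs_rs]) h
  have e : rs M (𝟙 a.1) m = m := by simp [rs]; rfl
  simpa only [AddMonoidHom.mk'_apply, e] using this

/-- Finite combinations of symbols are combinations over one map. -/
theorem lc_move {M : ModSite.Mod O_D} {U U' : C} (q : U' ⟶ U) (z : Free f M U) (X : Finset (Gn f M U))
    (hX : z.support ⊆ X) {V : D} (g : U' ⟶ f.fn.obj V) (k : ∀ x ∈ X, V ⟶ x.1.1)
    (hk : ∀ x (hx : x ∈ X), g ≫ f.fn.map (k x hx) = q ≫ x.1.2) :
    rs (f.pull.obj M) q (lc f M U z) = ∑ x : X, rr O_C q (z x.1) • beta f M ⟨V, g⟩ (rs M (k x.1 x.2) x.1.2) := by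
  rw [lc, Finsupp.linearCombination_apply, Finsupp.sum_of_support_subset (s := X)]
  · rw [← X.sum_coe_sort, map_sum]
    exact Finset.sum_congr rfl fun x _ => by rw [rs_smul, beta_move f M q x.1.1 x.1.2 g _ (hk x.1 x.2)]
  · exact hX
  · exact fun x _ => zero_smul _ _

/-- Finitely many sections of two inverse images are locally combinations over one map. -/
theorem exists_common {U : C} (a : Option (Pt f.fn U)) {n n' : ℕ} (s : Fin n → ModSite.sect (f.pull.obj M) U)
    (t : Fin n' → ModSite.sect (f.pull.obj N) U) :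
    ∃ S ∈ J U, ∀ ⦃U' : C⦄ (q : U' ⟶ U), S q → ∃ (V : D) (g : U' ⟶ f.fn.obj V) (X Y : Type u) (_ : Fintype X)
      (_ : Fintype Y) (m : X → ModSite.sect M V) (c : Fin n → X → O_C.obj.obj (op U')) (m' : Y → ModSite.sect N V)
      (c' : Fin n' → Y → O_C.obj.obj (op U')),
        (∀ b, a = some b → ∃ k : V ⟶ b.1, g ≫ f.fn.map k = q ≫ b.2) ∧
        (∀ i, rs (f.pull.obj M) q (s i) = ∑ x, c i x • beta f M ⟨V, g⟩ (m x)) ∧
        (∀ i, rs (f.pull.obj N) q (t i) = ∑ y, c' i y • beta f N ⟨V, g⟩ (m' y)) := by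
  classical
  haveI : PreservesFiniteLimits (Groth.L10.SiteFr.pullT (J := J) K f.fn) := f.exact
  obtain ⟨S₁, hS₁, hS₁d⟩ := exists_local_sums f M s
  refine exists_sieve_bind _ hS₁ fun U₁ q₁ hq₁ => ?_
  obtain ⟨z, hz⟩ := hS₁d q₁ hq₁
  obtain ⟨S₂, hS₂, hS₂d⟩ := exists_local_sums f N (fun i => rs (f.pull.obj N) q₁ (t i))
  refine exists_sieve_bind _ hS₂ fun U₂ q₂ hq₂ => ?_
  obtain ⟨w, hw⟩ := hS₂d q₂ hq₂
  let X : Finset (Gn f M U₂) := Finset.univ.biUnion fun i => (rho f M q₂ (z i)).support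
  let Y : Finset (Gn f N U₂) := Finset.univ.biUnion fun i => (w i).support
  let A : Finset (Pt f.fn U₂) := a.elim ∅ fun b => {b.res (q₂ ≫ q₁)}
  obtain ⟨S₃, hS₃, hS₃d⟩ := exists_cone (J := J) K U₂ (A ∪ (X.image (fun x => x.1) ∪ Y.image fun y => y.1))
  refine ⟨S₃, hS₃, fun U₃ q₃ hq₃ => ?_⟩
  obtain ⟨V, g, k, hk⟩ := hS₃d q₃ hq₃
  have hX : ∀ x ∈ X, x.1 ∈ A ∪ (X.image (fun x => x.1) ∪ Y.image fun y => y.1) := fun x hx =>
    Finset.mem_union_right _ (Finset.mem_union_left _ (Finset.mem_image_of_mem _ hx))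
  have hY : ∀ y ∈ Y, y.1 ∈ A ∪ (X.image (fun x => x.1) ∪ Y.image fun y => y.1) := fun y hy =>
    Finset.mem_union_right _ (Finset.mem_union_right _ (Finset.mem_image_of_mem _ hy))
  refine ⟨V, g, X, Y, inferInstance, inferInstance, fun x => rs M (k _ (hX x.1 x.2)) x.1.2,
    fun i x => rr O_C q₃ (rho f M q₂ (z i) x.1), fun y => rs N (k _ (hY y.1 y.2)) y.1.2,
    fun i y => rr O_C q₃ (w i y.1), ?_, fun i => ?_, fun i => ?_⟩
  · intro b hb
    subst hb
    have hmem : b.res (q₂ ≫ q₁) ∈ A ∪ (X.image (fun x => x.1) ∪ Y.image fun y => y.1) :=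
      Finset.mem_union_left _ (Finset.mem_singleton_self _)
    exact ⟨k _ hmem, (hk _ hmem).trans (by simp only [Category.assoc])⟩
  · rw [← rs_rs (f.pull.obj M) q₁ (q₃ ≫ q₂), ← rs_rs (f.pull.obj M) q₂ q₃, hz, ← lc_rho]
    exact lc_move f q₃ _ X (fun x hx => Finset.mem_biUnion.2 ⟨i, Finset.mem_univ i, hx⟩) g
      (fun x hx => k _ (hX x hx)) (fun x hx => hk _ _)
  · rw [← rs_rs (f.pull.obj N) q₁ (q₃ ≫ q₂), ← rs_rs (f.pull.obj N) q₂ q₃, hw]
    exact lc_move f q₃ _ Y (fun x hx => Finset.mem_biUnion.2 ⟨i, Finset.mem_univ i, hx⟩) g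
      (fun x hx => k _ (hY x hx)) (fun x hx => hk _ _)

/-- The comparison map on the underlying presheaves. -/
def nuP : (preF O_D).obj M ⊗ (preF O_D).obj N ⟶ (preF O_D).obj (f.push.obj (ten (f.pull.obj M) (f.pull.obj N))) where
  app V := ModuleCat.MonoidalCategory.tensorLift
    (fun (m : ModSite.sect M V.unop) (n : ModSite.sect N V.unop) =>
      (tmulS (f.pull.obj M) (f.pull.obj N) (f.fn.obj V.unop) (etaM f M V.unop m) (etaM f N V.unop n) :
        ((preF O_D).obj (f.push.obj (ten (f.pull.obj M) (f.pull.obj N)))).obj V))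
    (fun (m m' : ModSite.sect M V.unop) (n : ModSite.sect N V.unop) => by
      show tmulS (f.pull.obj M) (f.pull.obj N) (f.fn.obj V.unop) (etaM f M V.unop (m + m')) _ = _
      rw [map_add, tmulS_add_left]
      rfl)
    (fun (r : O_D.obj.obj V) (m : ModSite.sect M V.unop) (n : ModSite.sect N V.unop) => by
      show tmulS (f.pull.obj M) (f.pull.obj N) (f.fn.obj V.unop) (etaM f M V.unop (r • m)) _ = _
      rw [etaM_smul, tmulS_smul_left]
      rfl)
    (fun (m : ModSite.sect M V.unop) (n n' : ModSite.sect N V.unop) => by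
      show tmulS (f.pull.obj M) (f.pull.obj N) (f.fn.obj V.unop) _ (etaM f N V.unop (n + n')) = _
      rw [map_add, tmulS_add_right]
      rfl)
    (fun (r : O_D.obj.obj V) (m : ModSite.sect M V.unop) (n : ModSite.sect N V.unop) => by
      show tmulS (f.pull.obj M) (f.pull.obj N) (f.fn.obj V.unop) _ (etaM f N V.unop (r • n)) = _
      rw [etaM_smul, tmulS_smul_right]
      rfl)
  naturality {V W} h := ModuleCat.MonoidalCategory.tensor_ext fun m n => by
    show tmulS _ _ _ (etaM f M W.unop (rs M h.unop m)) (etaM f N W.unop (rs N h.unop n)) =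
      rs (ten (f.pull.obj M) (f.pull.obj N)) (f.fn.map h.unop) (tmulS _ _ _ (etaM f M V.unop m) (etaM f N V.unop n))
    rw [tmulS_res, etaM_res, etaM_res]

/-- The comparison map. -/
def mu : f.pull.obj (ten M N) ⟶ ten (f.pull.obj M) (f.pull.obj N) :=
  (f.adj.homEquiv (ten M N) _).symm (((shfAdj O_D).homEquiv _ _).symm (nuP f M N))

theorem mu_beta {U : C} (a : Pt f.fn U) (m : ModSite.sect M a.1) (n : ModSite.sect N a.1) :
    (mu f M N).val.app (op U) (beta f (ten M N) a (tmulS M N a.1 m n)) =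
      tmulS (f.pull.obj M) (f.pull.obj N) U (beta f M a m) (beta f N a n) := by
  obtain ⟨V, g⟩ := a
  refine (Groth.L15.ExtSupp.res_natural (mu f M N) g (etaM f (ten M N) V (tmulS M N V m n))).symm.trans ?_
  refine Eq.trans ?_ (tmulS_res (f.pull.obj M) (f.pull.obj N) g (etaM f M V m) (etaM f N V n))
  refine congrArg (rs (ten (f.pull.obj M) (f.pull.obj N)) g) ?_
  let ν : ten M N ⟶ f.push.obj (ten (f.pull.obj M) (f.pull.obj N)) := ((shfAdj O_D).homEquiv _ _).symm (nuP f M N)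
  have e₁ : f.adj.unit.app (ten M N) ≫ f.push.map (mu f M N) = ν :=
    (f.adj.homEquiv_unit _ _ (mu f M N)).symm.trans (Equiv.apply_symm_apply _ _)
  have e₂ : Groth.L00.ModSiteTensor.unit ((preF O_D).obj M ⊗ (preF O_D).obj N) ≫ (preF O_D).map ν = nuP f M N :=
    ((shfAdj O_D).homEquiv_unit _ _ ν).symm.trans (Equiv.apply_symm_apply _ _)
  exact (congr(($e₁).val.app (op V) (tmulS M N V m n))).trans (congr(($e₂).app (op V) (m ⊗ₜ[O_D.obj.obj (op V)] n)))

theorem mu_comb {U : C} {ι : Type u} [Fintype ι] (a : Pt f.fn U) (c : ι → O_C.obj.obj (op U))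
    (m : ι → ModSite.sect M a.1) (n : ι → ModSite.sect N a.1) :
    (mu f M N).val.app (op U) (∑ i, c i • beta f (ten M N) a (tmulS M N a.1 (m i) (n i))) =
      unitT (f.pull.obj M) (f.pull.obj N) U
        (∑ i, (c i • beta f M a (m i)) ⊗ₜ[O_C.obj.obj (op U)] beta f N a (n i)) := by
  refine (map_sum ((mu f M N).val.app (op U)).hom _ _).trans (Eq.trans ?_ (map_sum (unitT _ _ U) _ _).symm)
  refine Finset.sum_congr rfl fun i _ => ?_
  refine (map_smul ((mu f M N).val.app (op U)).hom _ _).trans ?_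
  exact (congrArg (fun w => c i • w) (mu_beta f M N a (m i) (n i))).trans
    (tmulS_smul_left (f.pull.obj M) (f.pull.obj N) U (c i) _ _).symm

/-- Sections of the inverse image of a tensor product are locally combinations of products over one map. -/
theorem exists_local_products {U : C} (w : ModSite.sect (f.pull.obj (ten M N)) U) :
    ∃ S ∈ J U, ∀ ⦃U' : C⦄ (q : U' ⟶ U), S q → ∃ (V : D) (g : U' ⟶ f.fn.obj V) (X : Type u) (_ : Fintype X)
      (c : X → O_C.obj.obj (op U')) (m : X → ModSite.sect M V) (n : X → ModSite.sect N V),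
        rs (f.pull.obj (ten M N)) q w = ∑ x, c x • beta f (ten M N) ⟨V, g⟩ (tmulS M N V (m x) (n x)) := by
  classical
  haveI : PreservesFiniteLimits (Groth.L10.SiteFr.pullT (J := J) K f.fn) := f.exact
  obtain ⟨S₁, hS₁, hS₁d⟩ := exists_local_sum f (ten M N) w
  refine exists_sieve_bind _ hS₁ fun U₁ q₁ hq₁ => ?_
  obtain ⟨z, hz⟩ := hS₁d q₁ hq₁
  obtain ⟨S₂, hS₂, hS₂d⟩ := exists_cone (J := J) K U₁ (z.support.image fun x => x.1)
  refine exists_sieve_bind _ hS₂ fun U₂ q₂ hq₂ => ?_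
  obtain ⟨V, g, k, hk⟩ := hS₂d q₂ hq₂
  let X := z.support
  let sec : X → ModSite.sect (ten M N) V := fun x => rs (ten M N) (k x.1.1 (Finset.mem_image_of_mem _ x.2)) x.1.2
  have he : rs (f.pull.obj (ten M N)) (q₂ ≫ q₁) w =
      ∑ x : X, rr O_C q₂ (z x.1) • beta f (ten M N) ⟨V, g⟩ (sec x) := by
    rw [← rs_rs, hz]
    exact lc_move f q₂ z X (Finset.Subset.refl _) g (fun x hx => k x.1 (Finset.mem_image_of_mem _ hx))
      (fun x hx => hk _ _)
  let P := (preF O_D).obj M ⊗ (preF O_D).obj N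
  have hsec : ∀ s : Finset X, ∃ T ∈ K V, ∀ ⦃W : D⦄ (h : W ⟶ V), T h → ∀ x ∈ s, ∃ p : P.obj (op W),
      unitT M N W p = rs (ten M N) h (sec x) := by
    intro s
    induction s using Finset.induction_on with
    | empty => exact ⟨⊤, K.top_mem V, fun W h _ x hx => absurd hx (Finset.notMem_empty x)⟩
    | insert b t _ ih =>
      obtain ⟨T, hT, hTd⟩ := ih
      refine ⟨T ⊓ Presheaf.imageSieve (CategoryTheory.toSheafify K P.presheaf) (U := V) (sec b),
        K.intersection_covering hT (Presheaf.imageSieve_mem K (CategoryTheory.toSheafify K P.presheaf) (U := op V) (sec b)),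
        fun W h hh x hx => ?_⟩
      rcases Finset.mem_insert.1 hx with rfl | hx
      · exact hh.2
      · exact hTd h hh.1 x hx
  obtain ⟨T, hT, hTd⟩ := hsec Finset.univ
  obtain ⟨R, hR, hRd⟩ := cover_preserve (J := J) (u := f.fn) hT g
  refine ⟨R, hR, fun U₃ q₃ hq₃ => ?_⟩
  obtain ⟨W, h, g', hh, hg'⟩ := hRd q₃ hq₃
  choose p hp using fun x : X => hTd h hh x (Finset.mem_univ x)
  choose l xm yn hxy using fun x : X => exists_unitT_sum M N (p x)
  refine ⟨W, g', Σ x : X, ULift.{u} (Fin (l x)), inferInstance, fun i => rr O_C q₃ (rr O_C q₂ (z i.1.1)),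
    fun i => xm i.1 i.2.down, fun i => yn i.1 i.2.down, ?_⟩
  rw [show (q₃ ≫ q₂) ≫ q₁ = q₃ ≫ q₂ ≫ q₁ from Category.assoc _ _ _, ← rs_rs (f.pull.obj (ten M N)) (q₂ ≫ q₁) q₃, he,
    map_sum, Fintype.sum_sigma]
  refine Finset.sum_congr rfl fun x _ => ?_
  rw [rs_smul, beta_move f (ten M N) q₃ ⟨V, g⟩ (sec x) g' h hg', ← hp, hxy, beta, map_sum, map_sum,
    Finset.smul_sum]
  exact (Equiv.ulift.sum_comp fun j : Fin (l x) => _).symm

theorem mono_mu_aux {U : C} (w : ModSite.sect (f.pull.obj (ten M N)) U) (hw : (mu f M N).val.app (op U) w = 0) :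
    w = 0 := by
  classical
  obtain ⟨S₁, hS₁, hS₁d⟩ := exists_local_products f M N w
  refine Groth.L15.ExtSupp.sect_ext (f.pull.obj (ten M N)) S₁ hS₁ w 0 fun U₁ q₁ hq₁ => ?_
  refine Eq.trans ?_ (map_zero (rs (f.pull.obj (ten M N)) q₁)).symm
  obtain ⟨V, g, X, _, c, m, n, hwq⟩ := hS₁d q₁ hq₁
  show rs (f.pull.obj (ten M N)) q₁ w = 0
  rw [hwq]
  let P := (preF O_C).obj (f.pull.obj M) ⊗ (preF O_C).obj (f.pull.obj N)
  let w' : P.obj (op U₁) := ∑ i, (c i • beta f M ⟨V, g⟩ (m i)) ⊗ₜ[O_C.obj.obj (op U₁)] beta f N ⟨V, g⟩ (n i)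
  have h0 : (CategoryTheory.toSheafify J P.presheaf).app (op U₁) w' =
      (CategoryTheory.toSheafify J P.presheaf).app (op U₁) 0 := by
    rw [map_zero]
    refine (mu_comb f M N ⟨V, g⟩ c m n).symm.trans ?_
    rw [← hwq]
    exact ((Groth.L15.ExtSupp.res_natural (mu f M N) q₁ w).symm.trans
      ((congrArg _ hw).trans (map_zero (rs (ten (f.pull.obj M) (f.pull.obj N)) q₁))))
  refine Groth.L15.ExtSupp.sect_ext (f.pull.obj (ten M N)) _
    (Presheaf.equalizerSieve_mem J (CategoryTheory.toSheafify J P.presheaf) (X := op U₁) w' 0 h0) _ 0 fun U₂ q₂ hq₂ => ?_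
  refine Eq.trans ?_ (map_zero (rs (f.pull.obj (ten M N)) q₂)).symm
  have hz : ∑ i, (rr O_C q₂ (c i) • rs (f.pull.obj M) q₂ (beta f M ⟨V, g⟩ (m i))) ⊗ₜ[O_C.obj.obj (op U₂)]
      rs (f.pull.obj N) q₂ (beta f N ⟨V, g⟩ (n i)) = 0 := by
    have h1 : P.map q₂.op w' = 0 := (show P.map q₂.op w' = P.map q₂.op 0 from hq₂).trans (map_zero (P.map q₂.op).hom)
    refine Eq.trans ?_ h1
    refine Eq.trans ?_ (map_sum (P.map q₂.op).hom _ _).symm
    refine Finset.sum_congr rfl fun i _ => ?_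
    refine Eq.trans ?_ (PresheafOfModules.Monoidal.tensorObj_map_tmul q₂.op _ _).symm
    exact congrArg (fun v => v ⊗ₜ[O_C.obj.obj (op U₂)] rs (f.pull.obj N) q₂ (beta f N ⟨V, g⟩ (n i)))
      (rs_smul (f.pull.obj M) q₂ (c i) _).symm
  obtain ⟨n₀, p, t', idx, r, y, hrel, ht', hy⟩ := exists_relations' _ _ hz
  obtain ⟨S₃, hS₃, hS₃d⟩ := exists_common f M N (some (⟨V, q₂ ≫ g⟩ : Pt f.fn U₂)) y t'
  refine Groth.L15.ExtSupp.sect_ext (f.pull.obj (ten M N)) S₃ hS₃ _ 0 fun U₃ q₃ hq₃ => ?_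
  refine Eq.trans ?_ (map_zero (rs (f.pull.obj (ten M N)) q₃)).symm
  obtain ⟨W, g₃, A, B, _, _, am, Y, bn, Dc, hk, hy₃, ht₃⟩ := hS₃d q₃ hq₃
  obtain ⟨k, hk'⟩ := hk _ rfl
  let r₃ : Fin p → Fin n₀ → O_C.obj.obj (op U₃) := fun l i => rr O_C q₃ (r l i)
  let c₃ : X → O_C.obj.obj (op U₃) := fun i => rr O_C (q₃ ≫ q₂) (c i)
  have hmv : g₃ ≫ f.fn.map k = (q₃ ≫ q₂) ≫ g := hk'.trans (Category.assoc _ _ _).symm
  show rs (f.pull.obj (ten M N)) q₃ (rs (f.pull.obj (ten M N)) q₂ _) = 0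
  rw [rs_rs, map_sum]
  have hstep : ∀ x, rs (f.pull.obj (ten M N)) (q₃ ≫ q₂) (c x • beta f (ten M N) ⟨V, g⟩ (tmulS M N V (m x) (n x))) =
      c₃ x • ∑ b, Dc (idx x) b • beta f (ten M N) ⟨W, g₃⟩ (tmulS M N W (rs M k (m x)) (bn b)) := by
    intro x
    rw [rs_smul, beta_move f (ten M N) (q₃ ≫ q₂) ⟨V, g⟩ _ g₃ k hmv, tmulS_res]
    have hN : ∑ _u : PUnit.{u + 1}, (1 : O_C.obj.obj (op U₃)) • beta f N ⟨W, g₃⟩ (rs N k (n x)) =
        ∑ b, Dc (idx x) b • beta f N ⟨W, g₃⟩ (bn b) := by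
      rw [Fintype.sum_unique, one_smul, ← ht₃, ht', rs_rs, beta_move f N (q₃ ≫ q₂) ⟨V, g⟩ (n x) g₃ k hmv]
    have := comb_tmul_right f M N ⟨W, g₃⟩ (fun _ : PUnit.{u + 1} => rs N k (n x)) _ bn _ (rs M k (m x)) hN
    rw [Fintype.sum_unique, one_smul] at this
    rw [this]
  rw [Finset.sum_congr rfl fun x _ => hstep x]
  have hbm : ∀ x, rs (f.pull.obj M) q₃ (rs (f.pull.obj M) q₂ (beta f M ⟨V, g⟩ (m x))) =
      beta f M ⟨W, g₃⟩ (rs M k (m x)) := fun x =>
    (rs_rs (f.pull.obj M) q₂ q₃ (beta f M ⟨V, g⟩ (m x))).trans (beta_move f M (q₃ ≫ q₂) ⟨V, g⟩ (m x) g₃ k hmv)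
  have hM : ∀ i, ∑ x, (if idx x = i then c₃ x else 0) • beta f M ⟨W, g₃⟩ (rs M k (m x)) =
      ∑ a, (∑ l, r₃ l i * Y l a) • beta f M ⟨W, g₃⟩ (am a) := by
    intro i
    have h := congrArg (rs (f.pull.obj M) q₃) (hy i)
    simp only [map_sum, rs_smul, hy₃, hbm, Finset.smul_sum, smul_smul, apply_ite (rs (f.pull.obj M) q₃), map_zero,
      rr_rr] at h
    refine Eq.trans ?_ (h.trans ?_)
    · exact Finset.sum_congr rfl fun x _ => by rw [ite_smul, zero_smul]
    · rw [Finset.sum_comm]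
      exact Finset.sum_congr rfl fun a _ => (Finset.sum_smul).symm
  have hN0 : ∀ l, ∑ b, (∑ i, r₃ l i * Dc i b) • beta f N ⟨W, g₃⟩ (bn b) =
      ∑ e : PEmpty.{u + 1}, (0 : O_C.obj.obj (op U₃)) • beta f N ⟨W, g₃⟩ (PEmpty.elim e) := by
    intro l
    have h := congrArg (rs (f.pull.obj N) q₃) (hrel l)
    simp only [map_sum, rs_smul, ht₃, Finset.smul_sum, smul_smul, map_zero] at h
    rw [Finset.univ_eq_empty (α := PEmpty.{u + 1}), Finset.sum_empty]
    refine Eq.trans ?_ h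
    rw [Finset.sum_comm]
    exact Finset.sum_congr rfl fun b _ => Finset.sum_smul
  have hswap : ∀ (b : B) (i : Fin n₀), ∑ x, (if idx x = i then c₃ x else 0) •
        beta f (ten M N) ⟨W, g₃⟩ (tmulS M N W (rs M k (m x)) (bn b)) =
      ∑ a, (∑ l, r₃ l i * Y l a) • beta f (ten M N) ⟨W, g₃⟩ (tmulS M N W (am a) (bn b)) := fun b i =>
    comb_tmul_left f M N ⟨W, g₃⟩ _ _ _ _ (bn b) (hM i)
  have hzero : ∀ (l : Fin p) (a : A), ∑ b, (∑ i, r₃ l i * Dc i b) • beta f (ten M N) ⟨W, g₃⟩ (tmulS M N W (am a) (bn b)) = 0 :=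
    fun l a => by
      refine (comb_tmul_right f M N ⟨W, g₃⟩ _ _ _ _ (am a) (hN0 l)).trans ?_
      rw [Finset.univ_eq_empty (α := PEmpty.{u + 1}), Finset.sum_empty]
  calc ∑ x, c₃ x • ∑ b, Dc (idx x) b • beta f (ten M N) ⟨W, g₃⟩ (tmulS M N W (rs M k (m x)) (bn b))
      = ∑ b, ∑ i, Dc i b • ∑ x, (if idx x = i then c₃ x else 0) •
          beta f (ten M N) ⟨W, g₃⟩ (tmulS M N W (rs M k (m x)) (bn b)) := by
        simp only [Finset.smul_sum, smul_smul, mul_ite, mul_zero, ite_smul, zero_smul]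
        rw [Finset.sum_comm]
        refine Finset.sum_congr rfl fun b _ => ?_
        conv_rhs => rw [Finset.sum_comm]
        simp [smul_smul, mul_comm]
    _ = ∑ b, ∑ i, Dc i b • ∑ a, (∑ l, r₃ l i * Y l a) • beta f (ten M N) ⟨W, g₃⟩ (tmulS M N W (am a) (bn b)) := by
        simp only [hswap]
    _ = ∑ a, ∑ l, Y l a • ∑ b, (∑ i, r₃ l i * Dc i b) • beta f (ten M N) ⟨W, g₃⟩ (tmulS M N W (am a) (bn b)) := by
        simp only [Finset.smul_sum, smul_smul, Finset.mul_sum, Finset.sum_smul]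
        rw [Finset.sum_comm]
        conv_lhs => enter [2, i]; rw [Finset.sum_comm]
        rw [Finset.sum_comm]
        refine Finset.sum_congr rfl fun a _ => ?_
        conv_lhs => enter [2, i, 2, b]
        rw [Finset.sum_comm]
        conv_rhs => rw [Finset.sum_comm]
        refine Finset.sum_congr rfl fun b _ => ?_
        rw [Finset.sum_comm]
        exact Finset.sum_congr rfl fun l _ => Finset.sum_congr rfl fun i _ => by
          congr 1
          ring
    _ = 0 := by simp only [hzero, smul_zero, Finset.sum_const_zero]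

theorem exists_lift_mu {U : C} (z : ModSite.sect (ten (f.pull.obj M) (f.pull.obj N)) U) :
    ∃ S ∈ J U, ∀ ⦃U' : C⦄ (q : U' ⟶ U), S q →
      ∃ w, (mu f M N).val.app (op U') w = rs (ten (f.pull.obj M) (f.pull.obj N)) q z := by
  let P := (preF O_C).obj (f.pull.obj M) ⊗ (preF O_C).obj (f.pull.obj N)
  refine exists_sieve_bind _ (Presheaf.imageSieve_mem J (CategoryTheory.toSheafify J P.presheaf) (U := op U) z)
    fun U₁ q₁ hq₁ => ?_
  obtain ⟨w, hw⟩ := hq₁
  obtain ⟨n, x, y, rfl⟩ := exists_sum (f.pull.obj M) (f.pull.obj N) w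
  obtain ⟨S, hS, hSd⟩ := exists_common f M N none x y
  refine ⟨S, hS, fun U₂ q₂ hq₂ => ?_⟩
  obtain ⟨V, g, A, B, _, _, am, ca, bn, cb, -, hx, hy⟩ := hSd q₂ hq₂
  refine ⟨∑ i : (ULift.{u} (Fin n) × A) × B, (ca i.1.1.down i.1.2 * cb i.1.1.down i.2) •
    beta f (ten M N) ⟨V, g⟩ (tmulS M N V (am i.1.2) (bn i.2)), ?_⟩
  rw [mu_comb f M N ⟨V, g⟩ _ (fun i : (ULift.{u} (Fin n) × A) × B => am i.1.2) (fun i => bn i.2), ← rs_rs,
    show rs (ten (f.pull.obj M) (f.pull.obj N)) q₁ z = unitT _ _ U₁ (∑ k, x k ⊗ₜ[O_C.obj.obj (op U₁)] y k) from hw.symm,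
    map_sum (unitT (f.pull.obj M) (f.pull.obj N) U₁), map_sum (unitT (f.pull.obj M) (f.pull.obj N) U₂), map_sum (rs _ q₂)]
  rw [Fintype.sum_prod_type, Fintype.sum_prod_type]
  refine Fintype.sum_equiv Equiv.ulift _ _ fun j => ?_
  refine Eq.trans ?_ (tmulS_res (f.pull.obj M) (f.pull.obj N) q₂ (x j.down) (y j.down)).symm
  rw [hx, hy, tmulS_sum_sum]
  rfl

theorem isIso_mu : IsIso (mu f M N) := by
  haveI : Mono (mu f M N) := ⟨fun {W} p q hpq => SheafOfModules.Hom.ext (PresheafOfModules.hom_ext fun T => by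
    refine ModuleCat.hom_ext (LinearMap.ext fun z => ?_)
    rw [← sub_eq_zero]
    apply mono_mu_aux f M N (U := T.unop)
    refine (map_sub ((mu f M N).val.app T).hom _ _).trans ?_
    rw [sub_eq_zero]
    exact congr(($hpq).val.app T z))⟩
  haveI : Epi (mu f M N) := by
    refine (SheafOfModules.toSheaf.{u} _).epi_of_epi_map ?_
    refine (Sheaf.isLocallySurjective_iff_epi' _ _).1 ⟨fun {T} z => ?_⟩
    obtain ⟨S, hS, hSd⟩ := exists_lift_mu f M N (U := T) z
    exact J.superset_covering (fun W q hq => hSd q hq) hS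
  exact isIso_of_mono_of_epi _

/-- Inverse image commutes with tensor products. -/
def pullTenIso : f.pull.obj (ten M N) ≅ ten (f.pull.obj M) (f.pull.obj N) :=
  @asIso _ _ _ _ (mu f M N) (isIso_mu f M N)

end Groth.L15.PullFlat
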