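import Groth.Agent.L15.PullFlat.Cone
import Mathlib.Data.Finset.Basic

/-! Finite diagrams over an object factor locally through one object of the source site. -/

set_option autoImplicit false

universe u

open CategoryTheory CategoryTheory.Limits Opposite Groth.L10.SiteFr

noncomputable section

namespace Groth.L15.PullFlat

variable {C D : Type u} [SmallCategory C] [SmallCategory D] {J : GrothendieckTopology C}
  {K : GrothendieckTopology D} {u : D ⥤ C} [u.IsContinuous K J]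

theorem exists_sieve_bind {U : C} (good : ∀ ⦃U' : C⦄, (U' ⟶ U) → Prop) {S : Sieve U} (hS : S ∈ J U)
    (h : ∀ ⦃U' : C⦄ (q : U' ⟶ U), S q → ∃ T ∈ J U', ∀ ⦃U'' : C⦄ (r : U'' ⟶ U'), T r → good (r ≫ q)) :
    ∃ S' ∈ J U, ∀ ⦃U' : C⦄ (q : U' ⟶ U), S' q → good q := by
  choose T hT hTd using h
  refine ⟨Sieve.bind S fun U' q hq => T q hq, J.bind_covering hS fun U' q hq => hT q hq, ?_⟩
  rintro U'' _ ⟨U', r, q, hq, hr, rfl⟩
  exact hTd q hq r hr

variable (u) in
/-- A map to the image of an object. -/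
abbrev Pt (U : C) := Σ V : D, U ⟶ u.obj V

/-- A map to the image of an object after precomposition. -/
abbrev Pt.res {U U' : C} (q : U' ⟶ U) (a : Pt u U) : Pt u U' := ⟨a.1, q ≫ a.2⟩

variable (u) in
/-- An arrow between maps to images of objects. -/
structure Arr (U : C) where
  {V' V : D}
  g : U ⟶ u.obj V'
  h : V' ⟶ V

/-- Source of an arrow. -/
abbrev Arr.src {U : C} (A : Arr u U) : Pt u U := ⟨A.V', A.g⟩

/-- Target of an arrow. -/
abbrev Arr.tgt {U : C} (A : Arr u U) : Pt u U := ⟨A.V, A.g ≫ u.map A.h⟩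

variable (K) [hfl : PreservesFiniteLimits (pullT (J := J) K u)]

include hfl

theorem exists_cone (U : C) (s : Finset (Pt u U)) :
    ∃ S ∈ J U, ∀ ⦃U' : C⦄ (q : U' ⟶ U), S q → ∃ (V : D) (g : U' ⟶ u.obj V) (k : ∀ a ∈ s, V ⟶ a.1),
      ∀ a (ha : a ∈ s), g ≫ u.map (k a ha) = q ≫ a.2 := by
  classical
  induction s using Finset.induction_on with
  | empty =>
    obtain ⟨S, hS, hSd⟩ := exists_point (J := J) K u U
    refine ⟨S, hS, fun U' q hq => ?_⟩
    obtain ⟨V, ⟨g⟩⟩ := hSd q hq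
    exact ⟨V, g, fun a ha => absurd ha (Finset.notMem_empty a), fun a ha => absurd ha (Finset.notMem_empty a)⟩
  | insert b t hb ih =>
    obtain ⟨S, hS, hSd⟩ := ih
    refine exists_sieve_bind _ hS fun U' q hq => ?_
    obtain ⟨V, g, k, hk⟩ := hSd q hq
    obtain ⟨T, hT, hTd⟩ := exists_pair (J := J) (K := K) g (q ≫ b.2)
    refine ⟨T, hT, fun U'' r hr => ?_⟩
    obtain ⟨W, g', h₁, h₂, e₁, e₂⟩ := hTd r hr
    refine ⟨W, g', fun a ha => if e : a = b then h₂ ≫ eqToHom (by rw [e]) else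
      h₁ ≫ k a ((Finset.mem_insert.1 ha).resolve_left e), fun a ha => ?_⟩
    beta_reduce
    by_cases e : a = b
    · subst e
      rw [dif_pos rfl, eqToHom_refl, Category.comp_id, e₂, Category.assoc]
    · rw [dif_neg e, Functor.map_comp, ← Category.assoc, e₁, Category.assoc, hk, Category.assoc]

theorem exists_compat (U : C) (s : Finset (Pt u U)) {m : ℕ} (A : Fin m → Arr u U)
    (hA : ∀ i, (A i).src ∈ s) (hA' : ∀ i, (A i).tgt ∈ s) :
    ∃ S ∈ J U, ∀ ⦃U' : C⦄ (q : U' ⟶ U), S q → ∃ (V : D) (g : U' ⟶ u.obj V) (k : ∀ a ∈ s, V ⟶ a.1),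
      (∀ a (ha : a ∈ s), g ≫ u.map (k a ha) = q ≫ a.2) ∧
        ∀ i, k _ (hA i) ≫ (A i).h = k _ (hA' i) := by
  induction m with
  | zero =>
    obtain ⟨S, hS, hSd⟩ := exists_cone (J := J) K U s
    refine ⟨S, hS, fun U' q hq => ?_⟩
    obtain ⟨V, g, k, hk⟩ := hSd q hq
    exact ⟨V, g, k, hk, fun i => i.elim0⟩
  | succ m ih =>
    obtain ⟨S, hS, hSd⟩ := ih (fun i => A i.castSucc) (fun i => hA _) (fun i => hA' _)
    refine exists_sieve_bind _ hS fun U' q hq => ?_
    obtain ⟨V, g, k, hk, hc⟩ := hSd q hq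
    obtain ⟨T, hT, hTd⟩ := exists_equalize (J := J) (K := K) g (k _ (hA (Fin.last m)) ≫ (A (Fin.last m)).h)
      (k _ (hA' (Fin.last m))) (by
        rw [Functor.map_comp, ← Category.assoc, hk, hk, Category.assoc])
    refine ⟨T, hT, fun U'' r hr => ?_⟩
    obtain ⟨W, e, g', he, hg'⟩ := hTd r hr
    refine ⟨W, g', fun a ha => e ≫ k a ha, fun a ha => ?_, fun i => ?_⟩
    · rw [Functor.map_comp, ← Category.assoc, hg', Category.assoc, hk, Category.assoc]
    · induction i using Fin.lastCases with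
      | last => rw [Category.assoc]; exact he
      | cast i => rw [Category.assoc, hc i]

end Groth.L15.PullFlat
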