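import Groth.Agent.L10.SitePullExact
import Mathlib.CategoryTheory.Sites.Subsheaf
import Mathlib.CategoryTheory.Sites.CoverPreserving
import Mathlib.CategoryTheory.Limits.Preserves.Shapes.Equalizers

/-! A continuous functor with exact inverse image of sheaves of sets is locally cofiltered. -/

set_option autoImplicit false

universe u

open CategoryTheory CategoryTheory.Limits Opposite Groth.L10.SiteFr

noncomputable section

namespace Groth.L15.PullFlat

variable {C D : Type u} [SmallCategory C] [SmallCategory D] {J : GrothendieckTopology C}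
  {K : GrothendieckTopology D} {u : D ⥤ C} [u.IsContinuous K J]

/-- The unit of the inverse image, on a section. -/
abbrev eta {X : Sheaf K (Type u)} {V : D} (z : X.obj.obj (op V)) :
    ((pullT (J := J) K u).obj X).obj.obj (op (u.obj V)) :=
  ((u.sheafAdjunctionContinuous (Type u) K J).unit.app X).hom.app (op V) z

theorem eta_map {X X' : Sheaf K (Type u)} (φ : X ⟶ X') {V : D} (z : X.obj.obj (op V)) :
    ((pullT (J := J) K u).map φ).hom.app (op (u.obj V)) (eta z) = eta (φ.hom.app (op V) z) :=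
  congr(($((u.sheafAdjunctionContinuous (Type u) K J).unit.naturality φ)).hom.app (op V) z).symm

theorem eta_res {X : Sheaf K (Type u)} {V W : D} (h : W ⟶ V) (z : X.obj.obj (op V)) :
    ((pullT (J := J) K u).obj X).obj.map (u.map h).op (eta z) = eta (X.obj.map h.op z) :=
  congr($(((u.sheafAdjunctionContinuous (Type u) K J).unit.app X).hom.naturality h.op) z).symm

theorem map_map_eq {E : Type u} [SmallCategory E] (F : Eᵒᵖ ⥤ Type u) {X A B Y : E} {a : X ⟶ A} {b : A ⟶ Y}
    {c : X ⟶ B} {d : B ⟶ Y} (e : a ≫ b = c ≫ d) (y : F.obj (op Y)) :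
    F.map a.op (F.map b.op y) = F.map c.op (F.map d.op y) := by
  rw [← Functor.map_comp_apply, ← Functor.map_comp_apply, ← op_comp, ← op_comp, e]

variable (K u) in
/-- The presheaf image of the unit. -/
def imgSub (X : Sheaf K (Type u)) : Subfunctor ((pullT (J := J) K u).obj X).obj where
  obj U := {x | ∃ (V : D) (g : U.unop ⟶ u.obj V) (z : X.obj.obj (op V)),
    x = ((pullT (J := J) K u).obj X).obj.map g.op (eta z)}
  map {U U'} i := by
    rintro _ ⟨V, g, z, rfl⟩
    refine ⟨V, i.unop ≫ g, z, ?_⟩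
    rw [op_comp, Functor.map_comp]
    rfl

/-- Sections of an inverse image are locally images of sections. -/
theorem exists_local_eta (X : Sheaf K (Type u)) {U : C} (x : ((pullT (J := J) K u).obj X).obj.obj (op U)) :
    ∃ S ∈ J U, ∀ ⦃U' : C⦄ (q : U' ⟶ U), S q → ∃ (V : D) (g : U' ⟶ u.obj V) (z : X.obj.obj (op V)),
      ((pullT (J := J) K u).obj X).obj.map q.op x = ((pullT (J := J) K u).obj X).obj.map g.op (eta z) := by
  let G := (imgSub (J := J) K u X).sheafify J
  let P := (pullT (J := J) K u).obj X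
  let GS : Sheaf J (Type u) := ⟨G.toFunctor, (isSheaf_iff_isSheaf_of_type _ _).2
    ((imgSub K u X).sheafify_isSheaf ((isSheaf_iff_isSheaf_of_type _ _).1 P.2))⟩
  have hmem : ∀ (V : D) (z : X.obj.obj (op V)), eta z ∈ G.obj (op (u.obj V)) := fun V z =>
    (imgSub K u X).le_sheafify J _ ⟨V, 𝟙 _, z, by simp⟩
  let b : X ⟶ (u.sheafPushforwardContinuous (Type u) K J).obj GS :=
    ⟨{ app := fun V => ↾fun z => ⟨eta z, hmem V.unop z⟩
       naturality := fun V W h => ConcreteCategory.hom_ext _ _ fun z =>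
         Subtype.ext (eta_res h.unop z).symm }⟩
  let s : P ⟶ GS := ((u.sheafAdjunctionContinuous (Type u) K J).homEquiv X GS).symm b
  let ι : GS ⟶ P := ⟨G.ι⟩
  have hs : s ≫ ι = 𝟙 P := by
    apply ((u.sheafAdjunctionContinuous (Type u) K J).homEquiv X P).injective
    rw [Adjunction.homEquiv_naturality_right, Equiv.apply_symm_apply, Adjunction.homEquiv_id]
    rfl
  have hx : x ∈ G.obj (op U) := by
    have e : (s.hom.app (op U) x).1 = x := congr(($hs).hom.app (op U) x)
    rw [← e]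
    exact (s.hom.app (op U) x).2
  exact ⟨_, hx, fun U' q hq => hq⟩

theorem cover_preserve {V : D} {T : Sieve V} (hT : T ∈ K V) {U : C} (g : U ⟶ u.obj V) :
    ∃ S ∈ J U, ∀ ⦃U' : C⦄ (q : U' ⟶ U), S q →
      ∃ (W : D) (h : W ⟶ V) (g' : U' ⟶ u.obj W), T h ∧ g' ≫ u.map h = q ≫ g := by
  refine ⟨(T.functorPushforward u).pullback g,
    J.pullback_stable g ((CoverPreserving.of_isContinuous u K J).cover_preserve hT), ?_⟩
  rintro U' q ⟨W, h, g', hh, e⟩
  exact ⟨W, h, g', hh, e.symm⟩

/-- Two morphisms of a site which agree after sheafification agree locally. -/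
theorem exists_sieve_eq {E : Type u} [SmallCategory E] (L : GrothendieckTopology E) {X Y : E} (a b : X ⟶ Y)
    (h : (toSheafify L (yoneda.obj Y)).app (op X) a = (toSheafify L (yoneda.obj Y)).app (op X) b) :
    ∃ S ∈ L X, ∀ ⦃Z : E⦄ (q : Z ⟶ X), S q → q ≫ a = q ≫ b :=
  ⟨Presheaf.equalizerSieve (F := yoneda.obj Y) (X := op X) a b,
    Presheaf.equalizerSieve_mem L (toSheafify L (yoneda.obj Y)) (X := op X) a b h, fun _ _ hq => hq⟩

/-- Sections of a representable sheaf are locally morphisms. -/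
theorem exists_sieve_hom {E : Type u} [SmallCategory E] (L : GrothendieckTopology E) {X Y : E}
    (z : (rep L Y).obj.obj (op X)) :
    ∃ S ∈ L X, ∀ ⦃Z : E⦄ (q : Z ⟶ X), S q → ∃ a : Z ⟶ Y,
      (toSheafify L (yoneda.obj Y)).app (op Z) a = (rep L Y).obj.map q.op z :=
  ⟨Presheaf.imageSieve (toSheafify L (yoneda.obj Y)) (U := X) z,
    Presheaf.imageSieve_mem L (toSheafify L (yoneda.obj Y)) (U := op X) z, fun _ _ hq => hq⟩

variable (K) in
/-- The class of a morphism in the representable sheaf. -/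
abbrev cls {V W : D} (h : W ⟶ V) : (rep K V).obj.obj (op W) := (toSheafify K (yoneda.obj V)).app (op W) h

variable (K) in
/-- The element of the inverse image of a representable sheaf given by a morphism. -/
abbrev el {U : C} {V : D} (g : U ⟶ u.obj V) : ((pullT (J := J) K u).obj (rep K V)).obj.obj (op U) :=
  ((pullT (J := J) K u).obj (rep K V)).obj.map g.op (eta (cls K (𝟙 V)))

theorem cls_res {V W : D} (h : W ⟶ V) : (rep K V).obj.map h.op (cls K (𝟙 V)) = cls K h := by
  refine (congr($((toSheafify K (yoneda.obj V)).naturality h.op) (𝟙 V))).symm.trans ?_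
  exact congrArg ((toSheafify K (yoneda.obj V)).app (op W)) (Category.comp_id h)

theorem eta_cls {U : C} {V W : D} (h : W ⟶ V) (g : U ⟶ u.obj W) :
    ((pullT (J := J) K u).obj (rep K V)).obj.map g.op (eta (cls K h)) = el K (g ≫ u.map h) := by
  rw [← cls_res, ← eta_res, el, op_comp, Functor.map_comp]
  rfl

theorem el_res {U U' : C} {V : D} (q : U' ⟶ U) (g : U ⟶ u.obj V) :
    ((pullT (J := J) K u).obj (rep K V)).obj.map q.op (el K g) = el K (q ≫ g) := by
  rw [el, el, op_comp, Functor.map_comp]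
  rfl

variable (K) in
/-- Equal elements of the inverse image of a representable sheaf come from locally equal morphisms. -/
theorem eq_of_el {U : C} {V : D} (g g' : U ⟶ u.obj V) (h : el (J := J) K g = el K g') :
    ∃ S ∈ J U, ∀ ⦃U' : C⦄ (q : U' ⟶ U), S q → q ≫ g = q ≫ g' := by
  let R := rep J (u.obj V)
  let θ : (pullT (J := J) K u).obj (rep K V) ⟶ R :=
    ((u.sheafAdjunctionContinuous (Type u) K J).homEquiv _ R).symm
      ((repEquiv V ((u.sheafPushforwardContinuous (Type u) K J).obj R)).symm (cls J (𝟙 (u.obj V))))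
  have hθ : ∀ k : U ⟶ u.obj V, θ.hom.app (op U) (el K k) = cls J k := fun k => by
    refine congr($(θ.hom.naturality k.op) (eta (cls K (𝟙 V)))).trans ?_
    refine Eq.trans (congrArg (R.obj.map k.op) ?_) (cls_res k)
    have e := ((u.sheafAdjunctionContinuous (Type u) K J).homEquiv_unit (rep K V) R θ).symm
    refine congr(($e).hom.app (op V) (cls K (𝟙 V))).trans ?_
    rw [Equiv.apply_symm_apply]
    exact (repEquiv V ((u.sheafPushforwardContinuous (Type u) K J).obj R)).apply_symm_apply _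
  exact exists_sieve_eq J g g' (((hθ g).symm.trans (congrArg (θ.hom.app (op U)) h)).trans (hθ g'))

variable [hfl : PreservesFiniteLimits (pullT (J := J) K u)]

include hfl

variable (K u) in
/-- Locally there is a map to the image of some object. -/
theorem exists_point (U : C) :
    ∃ S ∈ J U, ∀ ⦃U' : C⦄ (q : U' ⟶ U), S q → ∃ V : D, Nonempty (U' ⟶ u.obj V) := by
  let x : rep J U ⟶ (pullT (J := J) K u).obj (⊤_ Sheaf K (Type u)) :=
    (IsTerminal.isTerminalObj (pullT (J := J) K u) _ terminalIsTerminal).from _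
  obtain ⟨S, hS, hSd⟩ := exists_local_eta _ (repEquiv U _ x)
  exact ⟨S, hS, fun U' q hq => (hSd q hq).imp fun V h => ⟨h.choose⟩⟩

/-- Two maps to images factor locally through a third. -/
theorem exists_pair {U : C} {V₁ V₂ : D} (g₁ : U ⟶ u.obj V₁) (g₂ : U ⟶ u.obj V₂) :
    ∃ S ∈ J U, ∀ ⦃U' : C⦄ (q : U' ⟶ U), S q → ∃ (V : D) (g : U' ⟶ u.obj V) (h₁ : V ⟶ V₁) (h₂ : V ⟶ V₂),
      g ≫ u.map h₁ = q ≫ g₁ ∧ g ≫ u.map h₂ = q ≫ g₂ := by
  let P := pullT (J := J) K u
  let a₁ := (repEquiv U (P.obj (rep K V₁))).symm (el K g₁)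
  let a₂ := (repEquiv U (P.obj (rep K V₂))).symm (el K g₂)
  obtain ⟨t, ht₁, ht₂⟩ := exists_lift2 K u a₁ a₂
  let x := repEquiv U _ t
  have hx₁ : (P.map prod.fst).hom.app (op U) x = el K g₁ := by
    rw [← repEquiv_comp, ← ht₁, Equiv.apply_symm_apply]
  have hx₂ : (P.map prod.snd).hom.app (op U) x = el K g₂ := by
    rw [← repEquiv_comp, ← ht₂, Equiv.apply_symm_apply]
  obtain ⟨S, hS, hSd⟩ := exists_local_eta _ x
  let good : ∀ ⦃U' : C⦄, (U' ⟶ U) → Prop := fun U' q => ∃ (V : D) (g : U' ⟶ u.obj V) (h₁ : V ⟶ V₁) (h₂ : V ⟶ V₂),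
      g ≫ u.map h₁ = q ≫ g₁ ∧ g ≫ u.map h₂ = q ≫ g₂
  let G : Sieve U :=
    { arrows := fun U' q => good q
      downward_closed := fun {U' U''} q ⟨V, g, h₁, h₂, e₁, e₂⟩ r =>
        ⟨V, r ≫ g, h₁, h₂, by rw [Category.assoc, e₁, Category.assoc], by rw [Category.assoc, e₂, Category.assoc]⟩ }
  refine ⟨G, J.transitive hS G fun U' q hq => ?_, fun _ _ h => h⟩
  obtain ⟨V, g, z, hz⟩ := hSd q hq
  obtain ⟨T₁, hT₁, hT₁d⟩ := exists_sieve_hom K ((prod.fst (X := rep K V₁) (Y := rep K V₂)).hom.app (op V) z)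
  obtain ⟨T₂, hT₂, hT₂d⟩ := exists_sieve_hom K ((prod.snd (X := rep K V₁) (Y := rep K V₂)).hom.app (op V) z)
  obtain ⟨R, hR, hRd⟩ := cover_preserve (J := J) (u := u) (K.intersection_covering hT₁ hT₂) g
  refine J.transitive hR _ fun U'' r hr => ?_
  obtain ⟨W, h, g', ⟨hh₁, hh₂⟩, e⟩ := hRd r hr
  obtain ⟨b₁, hb₁⟩ := hT₁d h hh₁
  obtain ⟨b₂, hb₂⟩ := hT₂d h hh₂
  have key : ∀ {Vi : D} (π : rep K V₁ ⨯ rep K V₂ ⟶ rep K Vi) (gi : U ⟶ u.obj Vi) (b : W ⟶ Vi),
      (P.map π).hom.app (op U) x = el K gi → cls K b = (rep K Vi).obj.map h.op (π.hom.app (op V) z) →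
        el (J := J) K (g' ≫ u.map b) = el K (r ≫ q ≫ gi) := by
    intro Vi π gi b hπ hb
    rw [← el_res r, ← el_res q, ← hπ, ← eta_cls, hb, ← eta_res, ← eta_map]
    have n1 := congr($((P.map π).hom.naturality q.op) x)
    refine Eq.trans ?_ (congrArg ((P.obj (rep K Vi)).obj.map r.op) n1)
    refine Eq.trans ?_ (congrArg (fun w => (P.obj (rep K Vi)).obj.map r.op ((P.map π).hom.app (op U') w)) hz.symm)
    refine Eq.trans ?_ (congrArg ((P.obj (rep K Vi)).obj.map r.op) (congr($((P.map π).hom.naturality g.op) (eta z)))).symm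
    exact map_map_eq _ e _
  obtain ⟨E₁, hE₁, hE₁d⟩ := eq_of_el K _ _ (key _ g₁ b₁ hx₁ hb₁)
  obtain ⟨E₂, hE₂, hE₂d⟩ := eq_of_el K _ _ (key _ g₂ b₂ hx₂ hb₂)
  refine J.superset_covering (fun U₃ s hs => ?_) (J.intersection_covering hE₁ hE₂)
  exact ⟨W, s ≫ g', b₁, b₂,
    by rw [Category.assoc, hE₁d s hs.1, Category.assoc, Category.assoc],
    by rw [Category.assoc, hE₂d s hs.2, Category.assoc, Category.assoc]⟩

/-- Maps equalised by the images of two morphisms factor locally through the image of an equalising morphism. -/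
theorem exists_equalize {U : C} {V V' : D} (g : U ⟶ u.obj V) (a b : V ⟶ V') (hg : g ≫ u.map a = g ≫ u.map b) :
    ∃ S ∈ J U, ∀ ⦃U' : C⦄ (q : U' ⟶ U), S q → ∃ (W : D) (e : W ⟶ V) (g' : U' ⟶ u.obj W),
      e ≫ a = e ≫ b ∧ g' ≫ u.map e = q ≫ g := by
  let P := pullT (J := J) K u
  let t := (repEquiv U (P.obj (rep K V))).symm (el K g)
  have hel : ∀ c : V ⟶ V', (P.map (repMap K c)).hom.app (op U) (el K g) = el K (g ≫ u.map c) := fun c => by
    refine congr($((P.map (repMap K c)).hom.naturality g.op) (eta (cls K (𝟙 V)))).trans ?_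
    refine Eq.trans (congrArg ((P.obj (rep K V')).obj.map g.op) ?_) (eta_cls c g)
    refine (eta_map _ _).trans (congrArg eta ?_)
    refine (congr(($(toSheafify_naturality K (yoneda.map c))).app (op V) (𝟙 V))).symm.trans ?_
    exact congrArg ((toSheafify K (yoneda.obj V')).app (op V)) (Category.id_comp c)
  have ht : t ≫ P.map (repMap K a) = t ≫ P.map (repMap K b) := by
    apply (repEquiv U _).injective
    rw [repEquiv_comp, repEquiv_comp, Equiv.apply_symm_apply, hel, hel, hg]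
  let l : rep J U ⟶ P.obj (equalizer (repMap K a) (repMap K b)) :=
    equalizer.lift t ht ≫ (PreservesEqualizer.iso P (repMap K a) (repMap K b)).inv
  have hl : l ≫ P.map (equalizer.ι (repMap K a) (repMap K b)) = t := by
    have hι : (PreservesEqualizer.iso P (repMap K a) (repMap K b)).inv ≫
        P.map (equalizer.ι (repMap K a) (repMap K b)) = equalizer.ι _ _ := by
      rw [Iso.inv_comp_eq, PreservesEqualizer.iso_hom]
      exact (equalizerComparison_comp_π _ _ _).symm
    exact ((Category.assoc _ _ _).trans (congrArg (fun w => equalizer.lift t ht ≫ w) hι)).trans (equalizer.lift_ι t ht)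
  let x := repEquiv U _ l
  have hx : (P.map (equalizer.ι (repMap K a) (repMap K b))).hom.app (op U) x = el K g := by
    rw [← repEquiv_comp, hl, Equiv.apply_symm_apply]
  obtain ⟨S, hS, hSd⟩ := exists_local_eta _ x
  let G : Sieve U :=
    { arrows := fun U' q => ∃ (W : D) (e : W ⟶ V) (g' : U' ⟶ u.obj W), e ≫ a = e ≫ b ∧ g' ≫ u.map e = q ≫ g
      downward_closed := fun {U' U''} q ⟨W, e, g', e₁, e₂⟩ r =>
        ⟨W, e, r ≫ g', e₁, by rw [Category.assoc, e₂, Category.assoc]⟩ }
  refine ⟨G, J.transitive hS G fun U' q hq => ?_, fun _ _ h => h⟩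
  obtain ⟨W₀, g₀, z, hz⟩ := hSd q hq
  let zV := (equalizer.ι (repMap K a) (repMap K b)).hom.app (op W₀) z
  obtain ⟨T, hT, hTd⟩ := exists_sieve_hom K zV
  obtain ⟨R, hR, hRd⟩ := cover_preserve (J := J) (u := u) hT g₀
  refine J.transitive hR _ fun U₂ r hr => ?_
  obtain ⟨W₁, h₁, g₁, hh₁, e₁⟩ := hRd r hr
  obtain ⟨c, hc⟩ := hTd h₁ hh₁
  have hel₁ : el (J := J) K (g₁ ≫ u.map c) = el K (r ≫ q ≫ g) := by
    rw [← el_res r, ← el_res q, ← hx, ← eta_cls]
    show (P.obj (rep K V)).obj.map g₁.op (eta (cls K c)) = _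
    rw [show cls K c = (rep K V).obj.map h₁.op zV from hc, ← eta_res]
    let π := equalizer.ι (repMap K a) (repMap K b)
    have n1 := congr($((P.map π).hom.naturality q.op) x)
    refine Eq.trans ?_ (congrArg ((P.obj (rep K V)).obj.map r.op) n1)
    refine Eq.trans ?_ (congrArg (fun w => (P.obj (rep K V)).obj.map r.op ((P.map π).hom.app (op U') w)) hz.symm)
    refine Eq.trans ?_ (congrArg ((P.obj (rep K V)).obj.map r.op) (congr($((P.map π).hom.naturality g₀.op) (eta z)))).symm
    refine Eq.trans ?_ (congrArg (fun w => (P.obj (rep K V)).obj.map r.op ((P.obj (rep K V)).obj.map g₀.op w)) (eta_map π z)).symm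
    exact map_map_eq _ e₁ _
  have hcl : cls K (c ≫ a) = cls K (c ≫ b) := by
    have hm : ∀ d : V ⟶ V', cls K (c ≫ d) =
        (rep K V').obj.map h₁.op ((repMap K d).hom.app (op W₀) zV) := fun d => by
      refine Eq.trans (congr(($(toSheafify_naturality K (yoneda.map d))).app (op W₁) c)) ?_
      refine Eq.trans (congrArg ((repMap K d).hom.app (op W₁)) hc) ?_
      exact congr($((repMap K d).hom.naturality h₁.op) zV)
    rw [hm, hm]
    exact congrArg ((rep K V').obj.map h₁.op)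
      congr(($(equalizer.condition (repMap K a) (repMap K b))).hom.app (op W₀) z)
  obtain ⟨T₂, hT₂, hT₂d⟩ := exists_sieve_eq K _ _ hcl
  obtain ⟨R₂, hR₂, hR₂d⟩ := cover_preserve (J := J) (u := u) hT₂ g₁
  obtain ⟨E, hE, hEd⟩ := eq_of_el K _ _ hel₁
  refine J.superset_covering (fun U₃ s hs => ?_) (J.intersection_covering hR₂ hE)
  obtain ⟨W₂, h₂, g₂, hh₂, e₂⟩ := hR₂d s hs.1
  refine ⟨W₂, h₂ ≫ c, g₂, ?_, ?_⟩
  · rw [Category.assoc, Category.assoc]
    exact hT₂d h₂ hh₂
  · rw [Functor.map_comp, ← Category.assoc, e₂, Category.assoc, hEd s hs.2, Category.assoc, Category.assoc]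

end Groth.L15.PullFlat
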