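import Groth.Agent.L15.PullFlat.TensorNat
import Mathlib.CategoryTheory.Adjunction.Limits

/-! Exactness of inverse image followed by tensoring with a relatively flat module. -/

set_option autoImplicit false

universe u

open CategoryTheory MonoidalCategory CategoryTheory.Limits Opposite Groth.L00.ModSiteTensor Groth.L15.FlatCrit
open scoped TensorProduct

noncomputable section

namespace Groth.L15.PullFlat

open Groth.L15.ModTensor (tR tL)

variable {C : Type u} [SmallCategory C] {J : GrothendieckTopology C} {D : Type u} [SmallCategory D]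
  {K : GrothendieckTopology D} {O_C : Sheaf J CommRingCat.{u}} {O_D : Sheaf K CommRingCat.{u}}
  (f : ModSite.RMor O_C O_D) (F : ModSite.Mod O_C)

/-- Relations with coefficients from the target site among sections of `F` are locally trivial. -/
def RelFlat : Prop :=
  ∀ (U : C) (a : Pt f.fn U) (p n : ℕ) (r : Fin p → Fin n → O_D.obj.obj (op a.1)) (y : Fin p → ModSite.sect F U),
    (∀ i, ∑ l, rr O_C a.2 (sr f a.1 (r l i)) • y l = 0) →
    ∃ S ∈ J U, ∀ ⦃U' : C⦄ (q : U' ⟶ U), S q → ∃ (V : D) (g : U' ⟶ f.fn.obj V) (k : V ⟶ a.1) (m : ℕ)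
      (b : Fin p → Fin m → O_D.obj.obj (op V)) (T : Fin m → ModSite.sect F U'),
        g ≫ f.fn.map k = q ≫ a.2 ∧ (∀ l, rs F q (y l) = ∑ e, rr O_C g (sr f V (b l e)) • T e) ∧
          ∀ i e, ∑ l, rr O_D k (r l i) * b l e = 0

/-- Sections over an object as a module over functions on an object under it. -/
abbrev algF {U : C} (a : Pt f.fn U) : Module (O_D.obj.obj (op a.1)) (ModSite.sect F U) :=
  Module.compHom _ ((rr O_C a.2).comp (sr f a.1))

variable (M : ModSite.Mod O_D)

/-- The module of formal products. -/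
abbrev TP {U : C} (a : Pt f.fn U) : Type u :=
  letI := algF f F a
  ModSite.sect F U ⊗[O_D.obj.obj (op a.1)] ModSite.sect M a.1

/-- A formal product. -/
abbrev tp {U : C} (a : Pt f.fn U) (w : ModSite.sect F U) (m : ModSite.sect M a.1) : TP f F M a :=
  letI := algF f F a
  w ⊗ₜ[O_D.obj.obj (op a.1)] m

theorem tp_smul {U : C} (a : Pt f.fn U) (x : O_D.obj.obj (op a.1)) (w : ModSite.sect F U) (m : ModSite.sect M a.1) :
    tp f F M a (rr O_C a.2 (sr f a.1 x) • w) m = tp f F M a w (x • m) :=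
  letI := algF f F a
  TensorProduct.smul_tmul (R := O_D.obj.obj (op a.1)) x w m

theorem tp_sum_left {U : C} (a : Pt f.fn U) {ι : Type*} [Fintype ι] (w : ι → ModSite.sect F U)
    (m : ModSite.sect M a.1) : tp f F M a (∑ i, w i) m = ∑ i, tp f F M a (w i) m :=
  letI := algF f F a
  TensorProduct.sum_tmul _ _ _

theorem tp_sum_right {U : C} (a : Pt f.fn U) {ι : Type*} [Fintype ι] (w : ModSite.sect F U)
    (m : ι → ModSite.sect M a.1) : tp f F M a w (∑ i, m i) = ∑ i, tp f F M a w (m i) :=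
  letI := algF f F a
  TensorProduct.tmul_sum _ _ _

/-- Restriction of formal products. -/
def moveT {U U' : C} (q : U' ⟶ U) (a : Pt f.fn U) (b : Pt f.fn U') (k : b.1 ⟶ a.1)
    (e : b.2 ≫ f.fn.map k = q ≫ a.2) : TP f F M a →+ TP f F M b :=
  letI := algF f F a
  TensorProduct.liftAddHom
    (AddMonoidHom.mk' (fun w => AddMonoidHom.mk' (fun m => tp f F M b (rs F q w) (rs M k m))
        fun m m' => by rw [map_add]; letI := algF f F b; exact TensorProduct.tmul_add _ _ _)
      fun w w' => AddMonoidHom.ext fun m => by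
        show tp f F M b (rs F q (w + w')) _ = tp f F M b (rs F q w) _ + tp f F M b (rs F q w') _
        rw [map_add]; letI := algF f F b; exact TensorProduct.add_tmul _ _ _)
    fun x w m => by
      show tp f F M b (rs F q (rr O_C a.2 (sr f a.1 x) • w)) (rs M k m) = tp f F M b (rs F q w) (rs M k (x • m))
      rw [rs_smul, rs_smul, ← tp_smul, rr_rr, ← e, ← sr_natural' f k b.2 x]

theorem moveT_tp {U U' : C} (q : U' ⟶ U) (a : Pt f.fn U) (b : Pt f.fn U') (k : b.1 ⟶ a.1)
    (e : b.2 ≫ f.fn.map k = q ≫ a.2) (w : ModSite.sect F U) (m : ModSite.sect M a.1) :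
    moveT f F M q a b k e (tp f F M a w m) = tp f F M b (rs F q w) (rs M k m) :=
  rfl

/-- A vanishing combination of basic sections gives locally vanishing formal products. -/
theorem comb_tp_zero {U : C} (a : Pt f.fn U) {ι : Type u} [Fintype ι] (m : ι → ModSite.sect M a.1)
    (c : ι → O_C.obj.obj (op U)) (t : ModSite.sect F U) (h0 : ∑ i, c i • beta f M a (m i) = 0) :
    ∃ S ∈ J U, ∀ ⦃U' : C⦄ (q : U' ⟶ U), S q → ∃ (V : D) (g : U' ⟶ f.fn.obj V) (k : V ⟶ a.1)
      (_ : g ≫ f.fn.map k = q ≫ a.2),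
        ∑ i, tp f F M ⟨V, g⟩ (rs F q (c i • t)) (rs M k (m i)) = 0 := by
  classical
  obtain ⟨S, hS, hSd⟩ := exists_local_zero f M a m c h0
  refine ⟨S, hS, fun U' q hq => ?_⟩
  obtain ⟨V, g, k, n, p, t', idx, r, y, hk, hrel, ht', hy⟩ := hSd q hq
  refine ⟨V, g, k, hk, ?_⟩
  calc ∑ i, tp f F M ⟨V, g⟩ (rs F q (c i • t)) (rs M k (m i))
      = ∑ j, ∑ i, tp f F M ⟨V, g⟩ (if idx i = j then rr O_C q (c i) • rs F q t else 0) (t' j) := by
        rw [Finset.sum_comm]
        refine Finset.sum_congr rfl fun i _ => ?_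
        rw [Finset.sum_eq_single (idx i)]
        · rw [if_pos rfl, rs_smul, ht']
        · intro j _ hj
          rw [if_neg (Ne.symm hj)]
          letI := algF f F (⟨V, g⟩ : Pt f.fn U')
          exact TensorProduct.zero_tmul _ _
        · exact fun h => absurd (Finset.mem_univ _) h
    _ = ∑ j, ∑ l, tp f F M ⟨V, g⟩ (rr O_C g (sr f V (r l j)) • (y l • rs F q t)) (t' j) := by
        refine Finset.sum_congr rfl fun j _ => ?_
        rw [← tp_sum_left, ← tp_sum_left]
        refine congrArg (fun w => tp f F M ⟨V, g⟩ w (t' j)) ?_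
        have := congrArg (fun z : O_C.obj.obj (op U') => z • rs F q t) (hy j)
        simp only [Finset.sum_smul, ite_smul, zero_smul] at this
        refine this.trans (Finset.sum_congr rfl fun l _ => ?_)
        rw [smul_smul]
    _ = ∑ l, tp f F M ⟨V, g⟩ (y l • rs F q t) (∑ j, r l j • t' j) := by
        rw [Finset.sum_comm]
        refine Finset.sum_congr rfl fun l _ => ?_
        rw [tp_sum_right]
        exact Finset.sum_congr rfl fun j _ => tp_smul f F M ⟨V, g⟩ (r l j) _ _
    _ = 0 := by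
        letI := algF f F (⟨V, g⟩ : Pt f.fn U')
        simp only [hrel]
        exact Finset.sum_eq_zero fun l _ => TensorProduct.tmul_zero _ _

/-- A vanishing combination in `f^*M ⊗ F` vanishes locally as formal products. -/
theorem ten_local_zero {U : C} (a : Pt f.fn U) {ι : Type u} [Fintype ι] (m : ι → ModSite.sect M a.1)
    (w : ι → ModSite.sect F U) (h0 : ∑ i, tmulS (f.pull.obj M) F U (beta f M a (m i)) (w i) = 0) :
    ∃ S ∈ J U, ∀ ⦃U' : C⦄ (q : U' ⟶ U), S q → ∃ (V : D) (g : U' ⟶ f.fn.obj V) (k : V ⟶ a.1)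
      (_ : g ≫ f.fn.map k = q ≫ a.2), ∑ i, tp f F M ⟨V, g⟩ (rs F q (w i)) (rs M k (m i)) = 0 := by
  classical
  let P := (preF O_C).obj (f.pull.obj M) ⊗ (preF O_C).obj F
  let w' : P.obj (op U) := ∑ i, beta f M a (m i) ⊗ₜ[O_C.obj.obj (op U)] w i
  have h1 : (CategoryTheory.toSheafify J P.presheaf).app (op U) w' =
      (CategoryTheory.toSheafify J P.presheaf).app (op U) 0 := by
    rw [map_zero]
    exact (map_sum (unitT (f.pull.obj M) F U) _ _).trans h0
  refine exists_sieve_bind _ (Presheaf.equalizerSieve_mem J (CategoryTheory.toSheafify J P.presheaf) (X := op U) w' 0 h1)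
    fun U₁ q₁ hq₁ => ?_
  have hz : ∑ i, rs (f.pull.obj M) q₁ (beta f M a (m i)) ⊗ₜ[O_C.obj.obj (op U₁)] rs F q₁ (w i) = 0 := by
    refine Eq.trans ?_ ((show P.map q₁.op w' = P.map q₁.op 0 from hq₁).trans (map_zero (P.map q₁.op).hom))
    refine Eq.trans ?_ (map_sum (P.map q₁.op).hom _ _).symm
    exact Finset.sum_congr rfl fun i _ => (PresheafOfModules.Monoidal.tensorObj_map_tmul q₁.op _ _).symm
  obtain ⟨n₀, p, t', idx, r, y, hrel, ht', hy⟩ := exists_relations' _ _ hz
  obtain ⟨S₂, hS₂, hS₂d⟩ := exists_common f M M (some (a.res q₁)) y (fun i : Fin 0 => i.elim0)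
  refine exists_sieve_bind _ hS₂ fun U₂ q₂ hq₂ => ?_
  obtain ⟨V, g, A, B, _, _, am, Y, -, -, hk, hy₂, -⟩ := hS₂d q₂ hq₂
  obtain ⟨k, hk'⟩ := hk _ rfl
  have hkq : g ≫ f.fn.map k = (q₂ ≫ q₁) ≫ a.2 := hk'.trans (Category.assoc _ _ _).symm
  let r₂ : Fin p → Fin n₀ → O_C.obj.obj (op U₂) := fun l i => rr O_C q₂ (r l i)
  let cM : Fin n₀ → ι ⊕ A → O_C.obj.obj (op U₂) := fun i =>
    Sum.elim (fun x => if idx x = i then 1 else 0) (fun e => -∑ l, r₂ l i * Y l e)
  let mM : ι ⊕ A → ModSite.sect M V := Sum.elim (fun x => rs M k (m x)) am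
  have hbm : ∀ x, rs (f.pull.obj M) q₂ (rs (f.pull.obj M) q₁ (beta f M a (m x))) = beta f M ⟨V, g⟩ (rs M k (m x)) :=
    fun x => (rs_rs (f.pull.obj M) q₁ q₂ (beta f M a (m x))).trans (beta_move f M (q₂ ≫ q₁) a (m x) g k hkq)
  have heq : ∀ i, ∑ x, cM i x • beta f M ⟨V, g⟩ (mM x) = 0 := by
    intro i
    have h := congrArg (rs (f.pull.obj M) q₂) (hy i)
    simp only [map_sum, rs_smul, hy₂, hbm, Finset.smul_sum, smul_smul, apply_ite (rs (f.pull.obj M) q₂), map_zero] at h
    rw [Fintype.sum_sum_type]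
    simp only [cM, mM, Sum.elim_inl, Sum.elim_inr, ite_smul, one_smul, zero_smul, neg_smul, Finset.sum_neg_distrib]
    rw [h, Finset.sum_comm, ← sub_eq_add_neg, sub_eq_zero]
    exact Finset.sum_congr rfl fun e _ => (Finset.sum_smul).symm
  have kill : ∀ s : Finset (Fin n₀), ∃ T ∈ J U₂, ∀ ⦃U₃ : C⦄ (q₃ : U₃ ⟶ U₂), T q₃ →
      ∃ (V' : D) (g' : U₃ ⟶ f.fn.obj V') (h : V' ⟶ V) (_ : g' ≫ f.fn.map h = q₃ ≫ g),
        ∀ i ∈ s, ∑ x, tp f F M ⟨V', g'⟩ (rs F q₃ (cM i x • rs F q₂ (t' i))) (rs M h (mM x)) = 0 := by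
    intro s
    induction s using Finset.induction_on with
    | empty =>
      exact ⟨⊤, J.top_mem U₂, fun U₃ q₃ _ =>
        ⟨V, q₃ ≫ g, 𝟙 V, by simp, fun i hi => absurd hi (Finset.notMem_empty i)⟩⟩
    | insert b s _ ih =>
      obtain ⟨T, hT, hTd⟩ := ih
      refine exists_sieve_bind _ hT fun U₃ q₃ hq₃ => ?_
      obtain ⟨V', g', h, hh, hs⟩ := hTd q₃ hq₃
      have heq' : ∑ x, rr O_C q₃ (cM b x) • beta f M ⟨V', g'⟩ (rs M h (mM x)) = 0 := by
        have e := congrArg (rs (f.pull.obj M) q₃) (heq b)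
        rw [map_sum, map_zero] at e
        refine Eq.trans (Finset.sum_congr rfl fun x _ => ?_) e
        rw [rs_smul, beta_move f M q₃ ⟨V, g⟩ (mM x) g' h hh]
      obtain ⟨T', hT', hT'd⟩ := comb_tp_zero f F M ⟨V', g'⟩ _ _ (rs F q₃ (rs F q₂ (t' b))) heq'
      refine ⟨T', hT', fun U₄ q₄ hq₄ => ?_⟩
      obtain ⟨V'', g'', h', hh', hz'⟩ := hT'd q₄ hq₄
      refine ⟨V'', g'', h' ≫ h, by rw [Functor.map_comp, ← Category.assoc, hh', Category.assoc, hh, Category.assoc],
        fun i hi => ?_⟩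
      rcases Finset.mem_insert.1 hi with rfl | hi
      · refine Eq.trans (Finset.sum_congr rfl fun x _ => ?_) hz'
        rw [← rs_rs F q₃ q₄, ← rs_rs M h h', rs_smul]
      · have e := congrArg (moveT f F M q₄ ⟨V', g'⟩ ⟨V'', g''⟩ h' hh') (hs i hi)
        rw [map_sum, map_zero] at e
        refine Eq.trans (Finset.sum_congr rfl fun x _ => ?_) e
        rw [moveT_tp, rs_rs F q₃ q₄, rs_rs M h h']
  obtain ⟨T, hT, hTd⟩ := kill Finset.univ
  refine ⟨T, hT, fun U₃ q₃ hq₃ => ?_⟩
  obtain ⟨V', g', h, hh, hs⟩ := hTd q₃ hq₃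
  refine ⟨V', g', h ≫ k, by
    rw [Functor.map_comp, ← Category.assoc, hh, Category.assoc, hkq]; simp only [Category.assoc], ?_⟩
  have hsum : ∑ i, ∑ x, tp f F M ⟨V', g'⟩ (rs F q₃ (cM i x • rs F q₂ (t' i))) (rs M h (mM x)) = 0 :=
    Finset.sum_eq_zero fun i _ => hs i (Finset.mem_univ i)
  rw [Finset.sum_comm, Fintype.sum_sum_type] at hsum
  have hA : ∀ e : A, ∑ i, tp f F M ⟨V', g'⟩ (rs F q₃ (cM i (Sum.inr e) • rs F q₂ (t' i))) (rs M h (mM (Sum.inr e))) = 0 := by
    intro e
    rw [← tp_sum_left, ← map_sum]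
    have : ∑ i, cM i (Sum.inr e) • rs F q₂ (t' i) = 0 := by
      have h' : ∀ l, ∑ i, r₂ l i • rs F q₂ (t' i) = 0 := fun l => by
        have := congrArg (rs F q₂) (hrel l)
        rw [map_sum, map_zero] at this
        exact Eq.trans (Finset.sum_congr rfl fun i _ => (rs_smul F q₂ _ _).symm) this
      simp only [cM, Sum.elim_inr, neg_smul, Finset.sum_neg_distrib, Finset.sum_smul, neg_eq_zero]
      rw [Finset.sum_comm]
      refine Finset.sum_eq_zero fun l _ => ?_
      rw [Finset.sum_congr rfl fun i _ => (show (r₂ l i * Y l e) • rs F q₂ (t' i) =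
        Y l e • (r₂ l i • rs F q₂ (t' i)) by rw [smul_smul, mul_comm]), ← Finset.smul_sum, h', smul_zero]
    rw [this, map_zero]
    letI := algF f F (⟨V', g'⟩ : Pt f.fn U₃)
    exact TensorProduct.zero_tmul _ _
  rw [Finset.sum_congr rfl fun e _ => hA e, Finset.sum_const_zero, add_zero] at hsum
  refine Eq.trans (Finset.sum_congr rfl fun x _ => ?_) hsum
  rw [← tp_sum_left, ← map_sum]
  simp only [cM, mM, Sum.elim_inl, ite_smul, one_smul, zero_smul, Finset.sum_ite_eq, Finset.mem_univ, if_true]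
  rw [ht', rs_rs, rs_rs, rs_rs M k h]

/-- Evaluation of formal products. -/
def evalTP {U : C} (a : Pt f.fn U) : TP f F M a →+ ModSite.sect (ten (f.pull.obj M) F) U :=
  letI := algF f F a
  TensorProduct.liftAddHom
    (AddMonoidHom.mk' (fun w => AddMonoidHom.mk' (fun m => tmulS (f.pull.obj M) F U (beta f M a m) w)
        fun m m' => by simp only [beta, map_add, tmulS_add_left])
      fun w w' => AddMonoidHom.ext fun m => tmulS_add_right _ _ _ _ w w')
    fun x w m => by
      show tmulS (f.pull.obj M) F U (beta f M a m) (rr O_C a.2 (sr f a.1 x) • w) =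
        tmulS (f.pull.obj M) F U (beta f M a (x • m)) w
      rw [tmulS_smul_right, ← tmulS_smul_left, beta, beta, etaM_smul, rs_smul]

theorem evalTP_tp {U : C} (a : Pt f.fn U) (w : ModSite.sect F U) (m : ModSite.sect M a.1) :
    evalTP f F M a (tp f F M a w m) = tmulS (f.pull.obj M) F U (beta f M a m) w :=
  rfl

/-- Sections of `f^*M ⊗ F` are locally combinations over one map. -/
theorem exists_local_ten {U : C} (z : ModSite.sect (ten (f.pull.obj M) F) U) :
    ∃ S ∈ J U, ∀ ⦃U' : C⦄ (q : U' ⟶ U), S q → ∃ (V : D) (g : U' ⟶ f.fn.obj V) (X : Type u) (_ : Fintype X)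
      (m : X → ModSite.sect M V) (w : X → ModSite.sect F U'),
        rs (ten (f.pull.obj M) F) q z = ∑ x, tmulS (f.pull.obj M) F U' (beta f M ⟨V, g⟩ (m x)) (w x) := by
  classical
  let P := (preF O_C).obj (f.pull.obj M) ⊗ (preF O_C).obj F
  refine exists_sieve_bind _ (Presheaf.imageSieve_mem J (CategoryTheory.toSheafify J P.presheaf) (U := op U) z)
    fun U₁ q₁ hq₁ => ?_
  obtain ⟨p, hp⟩ := hq₁
  obtain ⟨n, x, y, hxy⟩ := exists_unitT_sum (f.pull.obj M) F p
  obtain ⟨S, hS, hSd⟩ := exists_common f M M none x (fun i : Fin 0 => i.elim0)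
  refine ⟨S, hS, fun U₂ q₂ hq₂ => ?_⟩
  obtain ⟨V, g, A, B, _, _, am, c, -, -, -, hx, -⟩ := hSd q₂ hq₂
  refine ⟨V, g, ULift.{u} (Fin n) × A, inferInstance, fun i => am i.2,
    fun i => c i.1.down i.2 • rs F q₂ (y i.1.down), ?_⟩
  rw [← rs_rs, show rs (ten (f.pull.obj M) F) q₁ z = unitT (f.pull.obj M) F U₁ p from hp.symm, hxy, map_sum,
    Fintype.sum_prod_type]
  symm
  refine Fintype.sum_equiv Equiv.ulift _ _ fun j => ?_
  refine Eq.trans ?_ (tmulS_res (f.pull.obj M) F q₂ (x j.down) (y j.down)).symm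
  rw [hx]
  let L : ModSite.sect (f.pull.obj M) U₂ →+ ModSite.sect (ten (f.pull.obj M) F) U₂ :=
    AddMonoidHom.mk' (fun u => tmulS (f.pull.obj M) F U₂ u (rs F q₂ (y j.down))) fun u u' => tmulS_add_left _ _ _ u u' _
  refine Eq.trans ?_ (map_sum L _ _).symm
  refine Finset.sum_congr rfl fun e _ => ?_
  show tmulS _ _ _ (beta f M ⟨V, g⟩ (am e)) (c j.down e • rs F q₂ (y j.down)) =
    tmulS _ _ _ (c j.down e • beta f M ⟨V, g⟩ (am e)) (rs F q₂ (y j.down))
  rw [tmulS_smul_right, tmulS_smul_left]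

variable {f F} in
/-- Inverse image followed by tensoring with a relatively flat module preserves monomorphisms. -/
theorem preservesMonomorphisms_of_relFlat (hF : RelFlat f F) : (f.pull ⋙ tR F).PreservesMonomorphisms := by
  classical
  refine ⟨fun {A B} i _ => ?_⟩
  have key : ∀ (U : C) (z : ModSite.sect (ten (f.pull.obj A) F) U),
      ((tR F).map (f.pull.map i)).val.app (op U) z = 0 → z = 0 := by
    intro U z hz
    let Z := ten (f.pull.obj A) F
    obtain ⟨S, hS, hSd⟩ := exists_local_ten f F A z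
    refine Groth.L15.ExtSupp.sect_ext Z S hS z 0 fun U₁ q₁ hq₁ => ?_
    refine Eq.trans ?_ (map_zero (rs Z q₁)).symm
    show rs Z q₁ z = 0
    obtain ⟨V, g, X, _, m, w, hzq⟩ := hSd q₁ hq₁
    have hiz : ∑ x, tmulS (f.pull.obj B) F U₁ (beta f B ⟨V, g⟩ (i.val.app (op V) (m x))) (w x) = 0 := by
      have h := (Groth.L15.ExtSupp.res_natural ((tR F).map (f.pull.map i)) q₁ z).symm.trans
        ((congrArg _ hz).trans (map_zero (rs (ten (f.pull.obj B) F) q₁)))
      rw [show Groth.L15.ExtSupp.res ((tR F).obj (f.pull.obj A)) q₁ z = _ from hzq] at h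
      refine Eq.trans ?_ h
      refine Eq.trans ?_ (map_sum (((tR F).map (f.pull.map i)).val.app (op U₁)).hom _ _).symm
      refine Finset.sum_congr rfl fun x _ => ?_
      refine Eq.trans ?_ (tR_map_tmulS (f.pull.map i) F U₁ _ (w x)).symm
      refine congrArg (fun v => tmulS (f.pull.obj B) F U₁ v (w x)) ?_
      refine Eq.trans ?_ (Groth.L15.ExtSupp.res_natural (f.pull.map i) g (etaM f A V (m x)))
      exact congrArg (rs (f.pull.obj B) g) (pull_map_etaM f i V (m x)).symm
    rw [hzq]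
    obtain ⟨S₂, hS₂, hS₂d⟩ := ten_local_zero f F B ⟨V, g⟩ _ _ hiz
    refine Groth.L15.ExtSupp.sect_ext Z S₂ hS₂ _ 0 fun U₂ q₂ hq₂ => ?_
    refine Eq.trans ?_ (map_zero (rs Z q₂)).symm
    show rs Z q₂ _ = 0
    obtain ⟨V₂, g₂, k, hk, hsum⟩ := hS₂d q₂ hq₂
    letI := algF f F (⟨V₂, g₂⟩ : Pt f.fn U₂)
    obtain ⟨n, p, t', idx, r, y, hrel, ht', hy⟩ :=
      exists_relations' (R := O_D.obj.obj (op V₂)) _ _ hsum
    let img : Fin n → Prop := fun j => ∃ x, idx x = j
    let r' : Fin p → Fin n → O_D.obj.obj (op V₂) := fun l j => if img j then 0 else r l j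
    have hr' : ∀ j, ∑ l, rr O_C g₂ (sr f V₂ (r' l j)) • y l = 0 := by
      intro j
      by_cases hj : img j
      · exact Finset.sum_eq_zero fun l _ => by rw [show r' l j = 0 from if_pos hj, map_zero, map_zero, zero_smul]
      · rw [Finset.sum_congr rfl fun l _ => show rr O_C g₂ (sr f V₂ (r' l j)) • y l = r l j • y l by
          rw [show r' l j = r l j from if_neg hj]; rfl]
        refine (hy j).symm.trans (Finset.sum_eq_zero fun x _ => ?_)
        rw [if_neg fun e => hj ⟨x, e⟩]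
    obtain ⟨S₃, hS₃, hS₃d⟩ := hF U₂ ⟨V₂, g₂⟩ p n r' y hr'
    refine Groth.L15.ExtSupp.sect_ext Z S₃ hS₃ _ 0 fun U₃ q₃ hq₃ => ?_
    refine Eq.trans ?_ (map_zero (rs Z q₃)).symm
    show rs Z q₃ _ = 0
    obtain ⟨W, g₃, h, mm, b, T, hh, hy₃, hb⟩ := hS₃d q₃ hq₃
    let v : Fin mm → Fin n → O_D.obj.obj (op W) := fun e j => ∑ l, rr O_D h (r l j) * b l e
    have hv : ∀ e j, ¬ img j → v e j = 0 := fun e j hj => by
      refine Eq.trans ?_ (hb j e)
      exact Finset.sum_congr rfl fun l _ => by rw [show r' l j = r l j from if_neg hj]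
    let a' : Fin n → ModSite.sect A W := fun j => if hj : img j then rs A (h ≫ k) (m hj.choose) else 0
    have hia : ∀ j, img j → i.val.app (op W) (a' j) = rs B h (t' j) := fun j hj => by
      rw [show a' j = rs A (h ≫ k) (m hj.choose) from dif_pos hj]
      conv_rhs => rw [← hj.choose_spec, ht', rs_rs]
      exact (Groth.L15.ExtSupp.res_natural i (h ≫ k) _).symm
    have hva : ∀ e, ∑ j, v e j • a' j = 0 := fun e => by
      refine Groth.L15.ExtSupp.val_app_injective i W ?_
      rw [map_zero]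
      refine (map_sum (i.val.app (op W)).hom _ _).trans ?_
      have e1 : ∀ j, i.val.app (op W) (v e j • a' j) = v e j • rs B h (t' j) := fun j => by
        refine (map_smul (i.val.app (op W)).hom (v e j) _).trans ?_
        by_cases hj : img j
        · exact congrArg (fun u => v e j • u) (hia j hj)
        · rw [hv e j hj]
          exact (zero_smul (O_D.obj.obj (op W)) _).trans (zero_smul (O_D.obj.obj (op W)) _).symm
      refine (Finset.sum_congr rfl fun j _ => e1 j).trans ?_
      simp only [v, Finset.sum_smul]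
      rw [Finset.sum_comm]
      refine Finset.sum_eq_zero fun l _ => ?_
      have := congrArg (rs B h) (hrel l)
      rw [map_sum, map_zero] at this
      simp only [rs_smul] at this
      rw [Finset.sum_congr rfl fun j _ => (show (rr O_D h (r l j) * b l e) • rs B h (t' j) =
        b l e • (rr O_D h (r l j) • rs B h (t' j)) by rw [smul_smul, mul_comm]), ← Finset.smul_sum, this, smul_zero]
    have hmove : ∀ x, rs Z (q₃ ≫ q₂) (tmulS (f.pull.obj A) F U₁ (beta f A ⟨V, g⟩ (m x)) (w x)) =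
        evalTP f F A ⟨W, g₃⟩ (tp f F A ⟨W, g₃⟩ (rs F q₃ (rs F q₂ (w x))) (a' (idx x))) := by
      intro x
      have hx : img (idx x) := ⟨x, rfl⟩
      have ha : a' (idx x) = rs A (h ≫ k) (m x) := by
        refine Groth.L15.ExtSupp.val_app_injective i W ((hia _ hx).trans ?_)
        rw [ht', rs_rs]
        exact Groth.L15.ExtSupp.res_natural i (h ≫ k) _
      rw [evalTP_tp, ha, tmulS_res, beta_move f A (q₃ ≫ q₂) ⟨V, g⟩ (m x) g₃ (h ≫ k) (by
        rw [Functor.map_comp, ← Category.assoc, hh, Category.assoc, hk, Category.assoc]), rs_rs F q₂ q₃]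
    rw [rs_rs, map_sum, Finset.sum_congr rfl fun x _ => hmove x, ← map_sum]
    refine (congrArg (evalTP f F A ⟨W, g₃⟩) ?_).trans (map_zero _)
    have he : ∀ j, ∑ x, (if idx x = j then rs F q₃ (rs F q₂ (w x)) else 0) =
        ∑ e, rr O_C g₃ (sr f W (v e j)) • T e := fun j => by
      have := congrArg (rs F q₃) (hy j)
      simp only [map_sum, apply_ite (rs F q₃), map_zero] at this
      refine this.trans ?_
      have e2 : ∀ l, rs F q₃ (r l j • y l) = ∑ e, rr O_C g₃ (sr f W (rr O_D h (r l j) * b l e)) • T e := fun l => by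
        show rs F q₃ (rr O_C g₂ (sr f V₂ (r l j)) • y l) = _
        rw [rs_smul, hy₃, Finset.smul_sum]
        exact Finset.sum_congr rfl fun e _ => by rw [smul_smul, map_mul, map_mul, sr_natural', hh, rr_rr]
      rw [Finset.sum_congr rfl fun l _ => e2 l, Finset.sum_comm]
      simp only [v, map_sum, Finset.sum_smul]
    calc ∑ x, tp f F A ⟨W, g₃⟩ (rs F q₃ (rs F q₂ (w x))) (a' (idx x))
        = ∑ j, tp f F A ⟨W, g₃⟩ (∑ x, if idx x = j then rs F q₃ (rs F q₂ (w x)) else 0) (a' j) := by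
          simp only [tp_sum_left]
          rw [Finset.sum_comm]
          refine Finset.sum_congr rfl fun x _ => ?_
          rw [Finset.sum_eq_single (idx x)]
          · rw [if_pos rfl]
          · intro j _ hj
            rw [if_neg (Ne.symm hj)]
            letI := algF f F (⟨W, g₃⟩ : Pt f.fn U₃)
            exact TensorProduct.zero_tmul _ _
          · exact fun h => absurd (Finset.mem_univ _) h
      _ = ∑ e, tp f F A ⟨W, g₃⟩ (T e) (∑ j, v e j • a' j) := by
          simp only [he, tp_sum_left]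
          rw [Finset.sum_comm]
          refine Finset.sum_congr rfl fun e _ => ?_
          rw [tp_sum_right]
          exact Finset.sum_congr rfl fun j _ => tp_smul f F A ⟨W, g₃⟩ (v e j) _ _
      _ = 0 := by
          letI := algF f F (⟨W, g₃⟩ : Pt f.fn U₃)
          simp only [hva]
          exact Finset.sum_eq_zero fun e _ => TensorProduct.tmul_zero _ _
  refine ⟨fun {W} p q hpq => SheafOfModules.Hom.ext (PresheafOfModules.hom_ext fun T => ?_)⟩
  refine ModuleCat.hom_ext (LinearMap.ext fun z => ?_)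
  rw [← sub_eq_zero]
  apply key T.unop
  refine (map_sub (((tR F).map (f.pull.map i)).val.app T).hom _ _).trans ?_
  rw [sub_eq_zero]
  exact congr(($hpq).val.app T z)

variable {f F} in
theorem preservesFinite_of_relFlat (hF : RelFlat f F) :
    PreservesFiniteLimits (f.pull ⋙ tR F) ∧ PreservesFiniteColimits (f.pull ⋙ tR F) := by
  haveI := preservesMonomorphisms_of_relFlat hF
  haveI : (f.pull ⋙ tR F).IsLeftAdjoint := Functor.isLeftAdjoint_comp _ _
  haveI : PreservesFiniteColimits (f.pull ⋙ tR F) := inferInstance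
  haveI := preservesBinaryBiproducts_of_preservesBinaryCoproducts (f.pull ⋙ tR F)
  haveI : (f.pull ⋙ tR F).Additive := Functor.additive_of_preservesBinaryBiproducts _
  haveI : (f.pull ⋙ tR F).PreservesHomology := Functor.preservesHomology_of_preservesMonos_and_cokernels _
  exact ⟨Functor.preservesFiniteLimits_of_preservesHomology _, inferInstance⟩

variable {f} in
theorem isFlat_of_relFlat (hF : RelFlat f (ModSite.unit O_C)) : f.IsFlat := by
  haveI := (preservesFinite_of_relFlat hF).1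
  exact preservesFiniteLimits_of_natIso
    (Functor.isoWhiskerLeft f.pull Groth.L15.ModTensor.unitIso ≪≫ Functor.rightUnitor f.pull)

end Groth.L15.PullFlat
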