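import Groth.Agent.L15.PullFlat.Exact
import Mathlib.Topology.Sheaves.Stalks
import Mathlib.RingTheory.Flat.EquationalCriterion
import Mathlib.RingTheory.RingHom.Flat

/-! Stalkwise flat maps of ringed spaces give flat morphisms of ringed sites. -/

set_option autoImplicit false

universe u

open CategoryTheory CategoryTheory.Limits Opposite TopologicalSpace Groth.L15.FlatCrit

noncomputable section

namespace Groth.L15.PullFlat

/-- Several relations on a flat module are trivial simultaneously. -/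
theorem exists_trivial_matrix {R M : Type*} [CommRing R] [AddCommGroup M] [Module R M] [Module.Flat R M] {p n : ℕ}
    (r : Fin p → Fin n → R) (y : Fin p → M) (h : ∀ i, ∑ l, r l i • y l = 0) :
    ∃ (m : ℕ) (b : Fin p → Fin m → R) (T : Fin m → M), (∀ l, y l = ∑ e, b l e • T e) ∧
      ∀ i e, ∑ l, r l i * b l e = 0 := by
  classical
  let φ : (Fin n → R) →ₗ[R] (Fin p → R) := Fintype.linearCombination R fun i l => r l i
  let x : (Fin p → R) →ₗ[R] M := Fintype.linearCombination R y
  have h' : x ∘ₗ φ = 0 := by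
    refine (Pi.basisFun R (Fin n)).ext fun i => ?_
    simpa [φ, x, Fintype.linearCombination_apply, Pi.single_apply] using h i
  obtain ⟨m, a, T, hx, ha⟩ := Module.Flat.exists_factorization_of_comp_eq_zero_of_free h'
  refine ⟨m, fun l e => a (Pi.single l 1) e, fun e => T (Finsupp.single e 1), fun l => ?_, fun i e => ?_⟩
  · have e1 : y l = T (a (Pi.single l 1)) := by
      refine Eq.trans ?_ (LinearMap.congr_fun hx (Pi.single l 1))
      simp [x, Fintype.linearCombination_apply, Pi.single_apply]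
    rw [e1]
    conv_lhs => rw [← Finsupp.univ_sum_single (a (Pi.single l 1))]
    rw [map_sum]
    refine Finset.sum_congr rfl fun e _ => ?_
    rw [← map_smul, Finsupp.smul_single, smul_eq_mul, mul_one]
  · have e1 := congrArg (fun v => v e) (LinearMap.congr_fun ha (Pi.single i 1))
    have e2 : φ (Pi.single i 1) = ∑ l, r l i • Pi.single l (1 : R) := by
      funext l
      simp [φ, Fintype.linearCombination_apply, Pi.single_apply, Finset.sum_apply, ite_apply]
    simp only [LinearMap.comp_apply, e2, map_sum, map_smul, Finsupp.coe_finset_sum, Finset.sum_apply,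
      Finsupp.smul_apply, smul_eq_mul, LinearMap.zero_apply, Finsupp.zero_apply] at e1
    exact e1

section Germs

variable {X : TopCat.{u}} (F : TopCat.Presheaf CommRingCat.{u} X) (x : X)

theorem exists_germs {m : ℕ} (t : Fin m → F.stalk x) (U : Opens X) (hx : x ∈ U) :
    ∃ (V : Opens X) (hxV : x ∈ V) (_ : V ≤ U) (s : Fin m → F.obj (op V)), ∀ e, F.germ V x hxV (s e) = t e := by
  induction m with
  | zero => exact ⟨U, hx, le_rfl, fun e => e.elim0, fun e => e.elim0⟩
  | succ m ih =>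
    obtain ⟨V, hxV, hV, s, hs⟩ := ih (fun e => t e.castSucc)
    obtain ⟨W, hxW, s', hs'⟩ := TopCat.Presheaf.exists_germ_eq F (t (Fin.last m))
    refine ⟨V ⊓ W, ⟨hxV, hxW⟩, inf_le_left.trans hV,
      Fin.lastCases (F.map (homOfLE inf_le_right).op s') (fun e => F.map (homOfLE inf_le_left).op (s e)), fun e => ?_⟩
    induction e using Fin.lastCases with
    | last =>
      simp only [Fin.lastCases_last]
      exact (TopCat.Presheaf.germ_res_apply F (homOfLE (inf_le_right : V ⊓ W ≤ W)) x ⟨hxV, hxW⟩ s').trans hs'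
    | cast e =>
      simp only [Fin.lastCases_castSucc]
      exact (TopCat.Presheaf.germ_res_apply F (homOfLE (inf_le_left : V ⊓ W ≤ V)) x ⟨hxV, hxW⟩ (s e)).trans (hs e)

theorem exists_germ_eqs {m : ℕ} (U : Opens X) (hx : x ∈ U) (s t : Fin m → F.obj (op U))
    (h : ∀ e, F.germ U x hx (s e) = F.germ U x hx (t e)) :
    ∃ (V : Opens X) (_ : x ∈ V) (hV : V ≤ U), ∀ e, F.map (homOfLE hV).op (s e) = F.map (homOfLE hV).op (t e) := by
  induction m with
  | zero => exact ⟨U, hx, le_rfl, fun e => e.elim0⟩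
  | succ m ih =>
    obtain ⟨V, hxV, hV, hs⟩ := ih (fun e => s e.castSucc) (fun e => t e.castSucc) (fun e => h _)
    obtain ⟨W, hxW, i₁, i₂, hW⟩ := TopCat.Presheaf.germ_eq F x hx hx _ _ (h (Fin.last m))
    refine ⟨V ⊓ W, ⟨hxV, hxW⟩, inf_le_left.trans hV, fun e => ?_⟩
    induction e using Fin.lastCases with
    | last =>
      have := congrArg (F.map (homOfLE (inf_le_right : V ⊓ W ≤ W)).op) hW
      rw [← ConcreteCategory.comp_apply, ← ConcreteCategory.comp_apply, ← Functor.map_comp, ← Functor.map_comp] at this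
      exact this
    | cast e =>
      have := congrArg (F.map (homOfLE (inf_le_left : V ⊓ W ≤ V)).op) (hs e)
      rw [← ConcreteCategory.comp_apply, ← ConcreteCategory.comp_apply, ← Functor.map_comp] at this
      exact this

end Germs

theorem relFlat_unit_of_stalkMaps {X Y : TopCat.{u}} (f : X ⟶ Y) (O_X : TopCat.Sheaf CommRingCat.{u} X)
    (O_Y : TopCat.Sheaf CommRingCat.{u} Y)
    (c : O_Y ⟶ ((TopologicalSpace.Opens.map f).sheafPushforwardContinuous CommRingCat.{u}
      (Opens.grothendieckTopology Y) (Opens.grothendieckTopology X)).obj O_X)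
    (hflat : ∀ x : X, ((TopCat.Presheaf.stalkFunctor CommRingCat.{u} (f x)).map
        (show O_Y.presheaf ⟶ (TopCat.Presheaf.pushforward CommRingCat.{u} f).obj O_X.presheaf from c.hom) ≫
      TopCat.Presheaf.stalkPushforward CommRingCat.{u} f O_X.presheaf x).hom.Flat) :
    RelFlat (ModSite.RMor.ofFlat (TopologicalSpace.Opens.map f) c) (ModSite.unit O_X) := by
  classical
  let F := ModSite.RMor.ofFlat (TopologicalSpace.Opens.map f) c
  intro U a p n r y₀ hy
  obtain ⟨V, g⟩ := a
  let P := O_X.presheaf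
  let Q := O_Y.presheaf
  let y : Fin p → P.obj (op U) := y₀
  let good : ∀ ⦃U' : Opens X⦄, (U' ⟶ U) → Prop := fun U' q => ∃ (V' : Opens Y) (g' : U' ⟶ (Opens.map f).obj V')
      (k : V' ⟶ V) (m : ℕ) (b : Fin p → Fin m → O_Y.obj.obj (op V')) (T : Fin m → O_X.obj.obj (op U')),
        g' ≫ (Opens.map f).map k = q ≫ g ∧
        (∀ l, rr O_X q (y l) = ∑ e, rr O_X g' (sr F V' (b l e)) * T e) ∧
        ∀ i e, ∑ l, rr O_Y k (r l i) * b l e = 0
  let S : Sieve U :=
    { arrows := fun U' q => good q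
      downward_closed := by
        rintro U' U'' q ⟨V', g', k, m, b, T, h1, h2, h3⟩ d
        refine ⟨V', d ≫ g', k, m, b, fun e => rr O_X d (T e), Subsingleton.elim _ _, fun l => ?_, h3⟩
        rw [← rr_rr O_X q d, h2, map_sum]
        exact Finset.sum_congr rfl fun e _ => by rw [map_mul, rr_rr] }
  refine ⟨S, fun x hx => ?_, fun U' q hq => hq⟩
  have hfx : f x ∈ V := leOfHom g hx
  let c' : Q ⟶ (TopCat.Presheaf.pushforward CommRingCat.{u} f).obj P := c.hom
  let φ : Q.stalk (f x) ⟶ P.stalk x := (TopCat.Presheaf.stalkFunctor CommRingCat.{u} (f x)).map c' ≫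
    TopCat.Presheaf.stalkPushforward CommRingCat.{u} f O_X.presheaf x
  have hφ : ∀ (V' : Opens Y) (h' : f x ∈ V') (z : Q.obj (op V')),
      φ.hom (Q.germ V' (f x) h' z) = P.germ ((Opens.map f).obj V') x h' (sr F V' z) := fun V' h' z => by
    have e : Q.germ V' (f x) h' ≫ φ = c'.app (op V') ≫ P.germ ((Opens.map f).obj V') x h' := by
      rw [TopCat.Presheaf.stalkFunctor_map_germ_assoc]
      exact congrArg (fun z => c'.app (op V') ≫ z) (TopCat.Presheaf.stalkPushforward_germ CommRingCat.{u} f P V' x h')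
    exact congr($e z)
  letI : Algebra (Q.stalk (f x)) (P.stalk x) := φ.hom.toAlgebra
  haveI : Module.Flat (Q.stalk (f x)) (P.stalk x) := hflat x
  have hrel : ∀ i, ∑ l, Q.germ V (f x) hfx (r l i) • P.germ U x hx (y l) = 0 := fun i => by
    have hy' : ∑ l, rr O_X g (sr F V (r l i)) * y l = 0 := hy i
    have h := congrArg (P.germ U x hx).hom hy'
    rw [map_sum, map_zero] at h
    refine Eq.trans (Finset.sum_congr rfl fun l _ => ?_) h
    show φ.hom (Q.germ V (f x) hfx (r l i)) * P.germ U x hx (y l) = _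
    rw [hφ]
    refine ((map_mul (P.germ U x hx).hom (rr O_X g (sr F V (r l i))) (y l)).trans ?_).symm
    exact congrArg (fun z => z * _) (TopCat.Presheaf.germ_res_apply P g x hx _)
  obtain ⟨m, b₀, T₀, hyT, hrb⟩ := exists_trivial_matrix _ _ hrel
  obtain ⟨V₁, hxV₁, hV₁, b₁, hb₁⟩ :=
    exists_germs Q (f x) (fun i : Fin (p * m) => b₀ (finProdFinEquiv.symm i).1 (finProdFinEquiv.symm i).2) V hfx
  let b : Fin p → Fin m → Q.obj (op V₁) := fun l e => b₁ (finProdFinEquiv (l, e))
  have hb : ∀ l e, Q.germ V₁ (f x) hxV₁ (b l e) = b₀ l e := fun l e => by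
    refine (hb₁ _).trans ?_
    simp
  obtain ⟨V₂, hxV₂, hV₂, hV₂eq⟩ := exists_germ_eqs Q (f x) V₁ hxV₁
    (fun i : Fin (n * m) => ∑ l, rr O_Y (homOfLE hV₁) (r l (finProdFinEquiv.symm i).1) * b l (finProdFinEquiv.symm i).2)
    (fun _ => 0) fun i => by
      rw [map_sum, map_zero]
      refine Eq.trans (Finset.sum_congr rfl fun l _ => ?_) (hrb (finProdFinEquiv.symm i).1 (finProdFinEquiv.symm i).2)
      rw [map_mul, hb]
      exact congrArg (fun z => z * _) (TopCat.Presheaf.germ_res_apply Q (homOfLE hV₁) (f x) hxV₁ _)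
  obtain ⟨U₁, hxU₁, hU₁, T₁, hT₁⟩ := exists_germs P x T₀ (U ⊓ (Opens.map f).obj V₂) ⟨hx, hxV₂⟩
  let q₁ : U₁ ⟶ U := homOfLE (hU₁.trans inf_le_left)
  let g₁ : U₁ ⟶ (Opens.map f).obj V₂ := homOfLE (hU₁.trans inf_le_right)
  let b₂ : Fin p → Fin m → Q.obj (op V₂) := fun l e => rr O_Y (homOfLE hV₂) (b l e)
  obtain ⟨U₂, hxU₂, hU₂, hU₂eq⟩ := exists_germ_eqs P x U₁ hxU₁
    (fun l => rr O_X q₁ (y l)) (fun l => ∑ e, rr O_X g₁ (sr F V₂ (b₂ l e)) * T₁ e) fun l => by
      rw [map_sum]
      refine (TopCat.Presheaf.germ_res_apply P q₁ x hxU₁ _).trans ((hyT l).trans (Finset.sum_congr rfl fun e _ => ?_))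
      show φ.hom (b₀ l e) * T₀ e = _
      rw [map_mul, hT₁]
      refine congrArg (fun z => z * T₀ e) ?_
      rw [← hb, ← TopCat.Presheaf.germ_res_apply Q (homOfLE hV₂) (f x) hxV₂, hφ]
      exact (TopCat.Presheaf.germ_res_apply P g₁ x hxU₁ _).symm
  refine ⟨U₂, homOfLE hU₂ ≫ q₁, ⟨V₂, homOfLE hU₂ ≫ g₁, homOfLE (hV₂.trans hV₁), m, b₂,
    fun e => rr O_X (homOfLE hU₂) (T₁ e), Subsingleton.elim _ _, fun l => ?_, fun i e => ?_⟩, hxU₂⟩
  · refine (rr_rr O_X q₁ (homOfLE hU₂) (y l)).symm.trans ((hU₂eq l).trans ?_)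
    show rr O_X (homOfLE hU₂) _ = _
    rw [map_sum]
    exact Finset.sum_congr rfl fun e _ => by rw [map_mul, rr_rr]
  · have h := (hV₂eq (finProdFinEquiv (i, e))).trans (map_zero (rr O_Y (homOfLE hV₂)))
    simp only [Equiv.symm_apply_apply] at h
    refine Eq.trans ?_ h
    show _ = rr O_Y (homOfLE hV₂) _
    rw [map_sum]
    exact Finset.sum_congr rfl fun l _ => by
      rw [map_mul, rr_rr]
      rfl

end Groth.L15.PullFlat
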