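import Groth.Agent.L15.PullFlat.Diagram
import Groth.Agent.L15.FlatCrit.Relations
import Groth.Prelude.Def_ModSite2
import Mathlib.LinearAlgebra.Finsupp.LinearCombination
import Mathlib.LinearAlgebra.TensorProduct.Tower

/-! Generators and relations for the inverse image of a sheaf of modules. -/

set_option autoImplicit false

universe u

open CategoryTheory CategoryTheory.Limits Opposite Groth.L00.ModSiteTensor Groth.L15.FlatCrit TensorProduct

noncomputable section

namespace Groth.L15.PullFlat

variable {C D : Type u} [SmallCategory C] [SmallCategory D] {J : GrothendieckTopology C}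
  {K : GrothendieckTopology D} {O_C : Sheaf J CommRingCat.{u}} {O_D : Sheaf K CommRingCat.{u}}
  (f : ModSite.RMor O_C O_D) (M : ModSite.Mod O_D)

/-- The structure map on sections. -/
abbrev sr (V : D) : O_D.obj.obj (op V) →+* O_C.obj.obj (op (f.fn.obj V)) := (f.sharp.hom.app (op V)).hom

theorem sr_natural {V W : D} (h : W ⟶ V) (x : O_D.obj.obj (op V)) :
    sr f W (rr O_D h x) = rr O_C (f.fn.map h) (sr f V x) :=
  congr($(f.sharp.hom.naturality h.op) x)

theorem sr_natural' {V W : D} (h : W ⟶ V) {U : C} (g : U ⟶ f.fn.obj W) (x : O_D.obj.obj (op V)) :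
    rr O_C g (sr f W (rr O_D h x)) = rr O_C (g ≫ f.fn.map h) (sr f V x) := by
  rw [sr_natural, rr_rr]

/-- The unit of the inverse image on sections. -/
abbrev etaM (V : D) : ModSite.sect M V →+ ModSite.sect (f.pull.obj M) (f.fn.obj V) :=
  ((f.adj.unit.app M).val.app (op V)).hom.toAddMonoidHom

theorem etaM_smul (V : D) (x : O_D.obj.obj (op V)) (m : ModSite.sect M V) :
    etaM f M V (x • m) = sr f V x • etaM f M V m :=
  map_smul ((f.adj.unit.app M).val.app (op V)).hom x m

theorem etaM_res {V W : D} (h : W ⟶ V) (m : ModSite.sect M V) :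
    rs (f.pull.obj M) (f.fn.map h) (etaM f M V m) = etaM f M W (rs M h m) :=
  Groth.L15.ExtSupp.res_natural (f.adj.unit.app M) h m

/-- The basic sections of an inverse image. -/
abbrev beta {U : C} (a : Pt f.fn U) (m : ModSite.sect M a.1) : ModSite.sect (f.pull.obj M) U :=
  rs (f.pull.obj M) a.2 (etaM f M a.1 m)

/-- Symbols for the sections of an inverse image. -/
abbrev Gn (U : C) := Σ a : Pt f.fn U, ModSite.sect M a.1

/-- Formal combinations of symbols. -/
abbrev Free (U : C) := Gn f M U →₀ O_C.obj.obj (op U)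

/-- A single symbol. -/
abbrev sgl {U : C} {V : D} (g : U ⟶ f.fn.obj V) (m : ModSite.sect M V) (c : O_C.obj.obj (op U)) : Free f M U :=
  Finsupp.single ⟨⟨V, g⟩, m⟩ c

/-- Restriction of symbols. -/
def resG {U U' : C} (q : U' ⟶ U) (x : Gn f M U) : Gn f M U' := ⟨x.1.res q, x.2⟩

/-- Restriction of formal combinations. -/
def rho {U U' : C} (q : U' ⟶ U) : Free f M U →ₛₗ[rr O_C q] Free f M U' where
  toFun z := Finsupp.mapDomain (resG f M q) (Finsupp.mapRange (rr O_C q) (map_zero _) z)
  map_add' x y := by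
    rw [Finsupp.mapRange_add (map_add _), Finsupp.mapDomain_add]
  map_smul' c x := by
    induction x using Finsupp.induction_linear with
    | zero => simp
    | add x y hx hy =>
      rw [smul_add, Finsupp.mapRange_add (map_add _), Finsupp.mapDomain_add, hx, hy,
        Finsupp.mapRange_add (map_add _), Finsupp.mapDomain_add, smul_add]
    | single a b => simp [Finsupp.smul_single]

theorem rho_sgl {U U' : C} (q : U' ⟶ U) {V : D} (g : U ⟶ f.fn.obj V) (m : ModSite.sect M V)
    (c : O_C.obj.obj (op U)) : rho f M q (sgl f M g m c) = sgl f M (q ≫ g) m (rr O_C q c) := by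
  show Finsupp.mapDomain _ (Finsupp.mapRange _ _ (Finsupp.single _ c)) = _
  rw [Finsupp.mapRange_single, Finsupp.mapDomain_single]
  rfl

/-- The relations between symbols. -/
inductive IsRel {U : C} : Free f M U → Prop
  | add {V : D} (g : U ⟶ f.fn.obj V) (m m' : ModSite.sect M V) :
      IsRel (sgl f M g (m + m') 1 - sgl f M g m 1 - sgl f M g m' 1)
  | smul {V : D} (g : U ⟶ f.fn.obj V) (x : O_D.obj.obj (op V)) (m : ModSite.sect M V) :
      IsRel (sgl f M g (x • m) 1 - sgl f M g m (rr O_C g (sr f V x)))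
  | res {V V' : D} (g : U ⟶ f.fn.obj V') (h : V' ⟶ V) (m : ModSite.sect M V) :
      IsRel (sgl f M g (rs M h m) 1 - sgl f M (g ≫ f.fn.map h) m 1)

/-- The span of the relations. -/
def relMod (U : C) : Submodule (O_C.obj.obj (op U)) (Free f M U) :=
  Submodule.span _ {z | IsRel f M z}

theorem rho_relMod {U U' : C} (q : U' ⟶ U) : relMod f M U ≤ (relMod f M U').comap (rho f M q) := by
  refine Submodule.span_le.2 fun z hz => ?_
  show rho f M q z ∈ relMod f M U'
  refine Submodule.subset_span ?_
  cases hz with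
  | add g m m' =>
    simp only [map_sub, rho_sgl, map_one]
    exact IsRel.add _ m m'
  | smul g x m =>
    simp only [map_sub, rho_sgl, map_one, rr_rr]
    exact IsRel.smul _ x m
  | res g h m =>
    simp only [map_sub, rho_sgl, map_one]
    rw [← Category.assoc]
    exact IsRel.res _ h m

theorem rho_id (U : C) (z : Free f M U) : rho f M (𝟙 U) z = z := by
  induction z using Finsupp.induction_linear with
  | zero => simp
  | add x y hx hy => rw [map_add, hx, hy]
  | single a b =>
    obtain ⟨⟨V, g⟩, m⟩ := a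
    rw [show Finsupp.single _ b = sgl f M g m b from rfl, rho_sgl, Category.id_comp,
      show rr O_C (𝟙 U) b = b by simp [rr]]

theorem rho_rho {U U' U'' : C} (q : U' ⟶ U) (r : U'' ⟶ U') (z : Free f M U) :
    rho f M r (rho f M q z) = rho f M (r ≫ q) z := by
  induction z using Finsupp.induction_linear with
  | zero => simp
  | add x y hx hy => rw [map_add, map_add, hx, hy, map_add]
  | single a b =>
    obtain ⟨⟨V, g⟩, m⟩ := a
    rw [show Finsupp.single _ b = sgl f M g m b from rfl, rho_sgl, rho_sgl, rho_sgl, Category.assoc, rr_rr]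

/-- The quotient by the relations, on sections. -/
abbrev QU (U : C) := Free f M U ⧸ relMod f M U

/-- Restriction of the quotient. -/
def qres {U U' : C} (q : U' ⟶ U) : QU f M U →ₛₗ[rr O_C q] QU f M U' :=
  Submodule.mapQ _ _ (rho f M q) (rho_relMod f M q)

theorem qres_mk {U U' : C} (q : U' ⟶ U) (z : Free f M U) :
    qres f M q (Submodule.Quotient.mk z) = Submodule.Quotient.mk (rho f M q z) := rfl

/-- The underlying presheaf of groups of the generators-and-relations presheaf. -/
def QAb : Cᵒᵖ ⥤ AddCommGrpCat.{u} where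
  obj U := AddCommGrpCat.of (QU f M U.unop)
  map q := AddCommGrpCat.ofHom (qres f M q.unop).toAddMonoidHom
  map_id U := AddCommGrpCat.hom_ext (AddMonoidHom.ext fun z => by
    obtain ⟨z, rfl⟩ := Submodule.Quotient.mk_surjective _ z
    exact congrArg Submodule.Quotient.mk (rho_id f M _ z))
  map_comp q r := AddCommGrpCat.hom_ext (AddMonoidHom.ext fun z => by
    obtain ⟨z, rfl⟩ := Submodule.Quotient.mk_surjective _ z
    exact congrArg Submodule.Quotient.mk (rho_rho f M q.unop r.unop z).symm)

instance (U : Cᵒᵖ) : Module ((O_C.obj ⋙ forget₂ CommRingCat RingCat).obj U) ((QAb f M).obj U) :=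
  inferInstanceAs (Module (O_C.obj.obj U) (QU f M U.unop))

/-- The generators-and-relations presheaf of modules. -/
def Qp : PMo O_C := PresheafOfModules.ofPresheaf (QAb f M) fun _ _ q c z => map_smulₛₗ (qres f M q.unop) c z

/-- A formal combination as a section of the quotient. -/
abbrev mkQ {U : C} (z : Free f M U) : (Qp f M).obj (op U) := Submodule.Quotient.mk z

/-- The sheaf of modules given by generators and relations. -/
abbrev Qs : ModSite.Mod O_C := (shf O_C).obj (Qp f M)

/-- A formal combination as a section of the sheaf. -/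
def toQs {U : C} : Free f M U →ₗ[O_C.obj.obj (op U)] ModSite.sect (Qs f M) U :=
  ((Groth.L00.ModSiteTensor.unit (Qp f M)).app (op U)).hom.comp (relMod f M U).mkQ

theorem toQs_res {U U' : C} (q : U' ⟶ U) (z : Free f M U) :
    rs (Qs f M) q (toQs f M z) = toQs f M (rho f M q z) :=
  (PresheafOfModules.naturality_apply (Groth.L00.ModSiteTensor.unit (Qp f M)) q.op (mkQ f M z)).symm

theorem toQs_rel {U : C} {z : Free f M U} (hz : IsRel f M z) : toQs f M z = 0 := by
  show ((Groth.L00.ModSiteTensor.unit (Qp f M)).app (op U)).hom _ = 0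
  refine (congrArg ((Groth.L00.ModSiteTensor.unit (Qp f M)).app (op U)).hom ?_).trans (map_zero _)
  exact (Submodule.Quotient.mk_eq_zero _).2 (Submodule.subset_span hz)

/-- The tautological map. -/
def betaQ : M ⟶ f.push.obj (Qs f M) :=
  ⟨PresheafOfModules.homMk
    { app := fun V => AddCommGrpCat.ofHom (AddMonoidHom.mk'
        (fun m : ModSite.sect M V.unop => (toQs f M (sgl f M (𝟙 (f.fn.obj V.unop)) m 1) : ModSite.sect (Qs f M) (f.fn.obj V.unop)))
        fun m m' => by
          have h := toQs_rel f M (IsRel.add (𝟙 (f.fn.obj V.unop)) m m')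
          rw [map_sub, map_sub, sub_sub, sub_eq_zero] at h
          exact h)
      naturality := fun V W h => AddCommGrpCat.hom_ext (AddMonoidHom.ext fun (m : ModSite.sect M V.unop) => by
        show (toQs f M (sgl f M (𝟙 (f.fn.obj W.unop)) (rs M h.unop m) 1) : ModSite.sect (Qs f M) (f.fn.obj W.unop)) =
          rs (Qs f M) (f.fn.map h.unop) (toQs f M (sgl f M (𝟙 (f.fn.obj V.unop)) m 1))
        rw [toQs_res, rho_sgl, map_one, Category.comp_id]
        have h' := toQs_rel f M (IsRel.res (𝟙 (f.fn.obj W.unop)) h.unop m)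
        rw [map_sub, sub_eq_zero, Category.id_comp] at h'
        exact h') }
    fun V x m => by
      show (toQs f M (sgl f M (𝟙 (f.fn.obj V.unop)) (x • m) 1) : ModSite.sect (Qs f M) (f.fn.obj V.unop)) =
        sr f V.unop x • toQs f M (sgl f M (𝟙 (f.fn.obj V.unop)) m 1)
      have h := toQs_rel f M (IsRel.smul (𝟙 (f.fn.obj V.unop)) x m)
      rw [map_sub, sub_eq_zero] at h
      refine h.trans ?_
      rw [← map_smul, Finsupp.smul_single, smul_eq_mul, mul_one,
        show rr O_C (𝟙 (f.fn.obj V.unop)) (sr f V.unop x) = sr f V.unop x by simp [rr]]⟩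

/-- The comparison map from the inverse image. -/
def theta : f.pull.obj M ⟶ Qs f M := (f.adj.homEquiv M (Qs f M)).symm (betaQ f M)

theorem theta_etaM (V : D) (m : ModSite.sect M V) :
    (theta f M).val.app (op (f.fn.obj V)) (etaM f M V m) = toQs f M (sgl f M (𝟙 (f.fn.obj V)) m 1) := by
  have e : f.adj.unit.app M ≫ f.push.map (theta f M) = betaQ f M :=
    (f.adj.homEquiv_unit M (Qs f M) (theta f M)).symm.trans (Equiv.apply_symm_apply _ _)
  exact congr(($e).val.app (op V) m)

theorem theta_beta {U : C} {V : D} (g : U ⟶ f.fn.obj V) (m : ModSite.sect M V) :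
    (theta f M).val.app (op U) (beta f M ⟨V, g⟩ m) = toQs f M (sgl f M g m 1) := by
  refine (Groth.L15.ExtSupp.res_natural (theta f M) g (etaM f M V m)).symm.trans ?_
  show rs (Qs f M) g ((theta f M).val.app (op (f.fn.obj V)) (etaM f M V m)) = _
  rw [theta_etaM, toQs_res, rho_sgl, map_one, Category.comp_id]

/-- The value of a formal combination. -/
def lc (U : C) : Free f M U →ₗ[O_C.obj.obj (op U)] ModSite.sect (f.pull.obj M) U :=
  Finsupp.linearCombination _ fun x : Gn f M U => beta f M x.1 x.2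

theorem lc_sgl {U : C} {V : D} (g : U ⟶ f.fn.obj V) (m : ModSite.sect M V) (c : O_C.obj.obj (op U)) :
    lc f M U (sgl f M g m c) = c • beta f M ⟨V, g⟩ m :=
  Finsupp.linearCombination_single _ _ _

theorem lc_rho {U U' : C} (q : U' ⟶ U) (z : Free f M U) :
    lc f M U' (rho f M q z) = rs (f.pull.obj M) q (lc f M U z) := by
  induction z using Finsupp.induction_linear with
  | zero => simp
  | add x y hx hy => rw [map_add, map_add, hx, hy, map_add, map_add]
  | single a b =>
    obtain ⟨⟨V, g⟩, m⟩ := a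
    rw [show Finsupp.single _ b = sgl f M g m b from rfl, rho_sgl, lc_sgl, lc_sgl, rs_smul]
    exact congrArg _ (rs_rs _ g q _).symm

theorem relMod_le_ker (U : C) : relMod f M U ≤ LinearMap.ker (lc f M U) := by
  refine Submodule.span_le.2 fun z hz => ?_
  show lc f M U z = 0
  cases hz with
  | add g m m' =>
    simp only [map_sub, lc_sgl, one_smul, beta, map_add]
    abel
  | smul g x m =>
    simp only [map_sub, lc_sgl, one_smul, beta, etaM_smul, rs_smul, sub_self]
  | res g h m =>
    simp only [map_sub, lc_sgl, one_smul, beta]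
    rw [← etaM_res, rs_rs, sub_self]

/-- The evaluation of formal combinations, as a map of presheaves. -/
def psiP : Qp f M ⟶ (preF O_C).obj (f.pull.obj M) where
  app U := ModuleCat.ofHom (Submodule.liftQ (relMod f M U.unop) (lc f M U.unop) (relMod_le_ker f M U.unop))
  naturality {U U'} q := by
    refine ModuleCat.hom_ext (LinearMap.ext fun z => ?_)
    obtain ⟨z, rfl⟩ := Submodule.Quotient.mk_surjective _ z
    exact lc_rho f M q.unop z

/-- The evaluation, on the sheaf. -/
def psi : Qs f M ⟶ f.pull.obj M := ((shfAdj O_C).homEquiv (Qp f M) (f.pull.obj M)).symm (psiP f M)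

theorem psi_toQs {U : C} (z : Free f M U) : (psi f M).val.app (op U) (toQs f M z) = lc f M U z := by
  have e : Groth.L00.ModSiteTensor.unit (Qp f M) ≫ (preF O_C).map (psi f M) = psiP f M :=
    ((shfAdj O_C).homEquiv_unit (Qp f M) (f.pull.obj M) (psi f M)).symm.trans (Equiv.apply_symm_apply _ _)
  exact congr(($e).app (op U) (mkQ f M z))

theorem theta_psi : theta f M ≫ psi f M = 𝟙 _ := by
  apply (f.adj.homEquiv M (f.pull.obj M)).injective
  rw [Adjunction.homEquiv_naturality_right, theta, Equiv.apply_symm_apply, Adjunction.homEquiv_id]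
  refine SheafOfModules.Hom.ext (PresheafOfModules.hom_ext fun V => ModuleCat.hom_ext (LinearMap.ext fun m => ?_))
  refine (psi_toQs f M (sgl f M (𝟙 (f.fn.obj V.unop)) m 1)).trans ?_
  rw [lc_sgl, one_smul]
  show rs _ (𝟙 _) _ = _
  simp [rs]
  rfl

/-- Sections of an inverse image are locally combinations of basic sections. -/
theorem exists_local_sum {U : C} (y : ModSite.sect (f.pull.obj M) U) :
    ∃ S ∈ J U, ∀ ⦃U' : C⦄ (q : U' ⟶ U), S q → ∃ z : Free f M U', rs (f.pull.obj M) q y = lc f M U' z := by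
  let P := Qp f M
  refine ⟨_, Presheaf.imageSieve_mem J (CategoryTheory.toSheafify J P.presheaf) (U := op U)
    ((theta f M).val.app (op U) y), fun U' q hq => ?_⟩
  obtain ⟨w, hw⟩ := hq
  obtain ⟨z, rfl⟩ := Submodule.Quotient.mk_surjective _ w
  refine ⟨z, (Eq.trans ?_ (psi_toQs f M z))⟩
  rw [show toQs f M z = rs (Qs f M) q ((theta f M).val.app (op U) y) from hw]
  refine Eq.trans (congrArg (rs (f.pull.obj M) q) (congr(($(theta_psi f M)).val.app (op U) y)).symm) ?_
  exact Groth.L15.ExtSupp.res_natural (psi f M) q _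

section Alg

variable {R B N : Type u} [CommRing R] [AddCommGroup B] [Module R B] [AddCommGroup N] [Module R N]

/-- A vanishing tensor gives relations on an enlarged family. -/
theorem exists_relations' {ι : Type u} [Fintype ι] (x : ι → B) (t : ι → N) (h : ∑ k, x k ⊗ₜ[R] t k = 0) :
    ∃ (m p : ℕ) (t' : Fin m → N) (idx : ι → Fin m) (g : Fin p → Fin m → R) (y : Fin p → B),
      (∀ r, ∑ i, g r i • t' i = 0) ∧ (∀ k, t' (idx k) = t k) ∧
        ∀ i, (∑ k, if idx k = i then x k else 0) = ∑ r, g r i • y r := by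
  classical
  let π : (N →₀ R) →ₗ[R] N := Finsupp.linearCombination R id
  have hπ : Function.Surjective π := fun v => ⟨Finsupp.single v 1, by simp [π]⟩
  let ξ : B ⊗[R] (N →₀ R) := ∑ k, x k ⊗ₜ Finsupp.single (t k) 1
  have hξ : π.lTensor B ξ = 0 := by simpa [ξ, π] using h
  obtain ⟨κ, hκ⟩ := exists_ker_lift π hπ ξ hξ
  obtain ⟨p, y, ρ, rfl⟩ := TensorProduct.exists_sum_tmul_eq κ
  let T : Finset N := (Finset.univ.image t) ∪ Finset.univ.biUnion fun r => (ρ r).1.support
  let e := T.equivFin.symm
  refine ⟨T.card, p, fun i => (e i : N),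
    fun k => e.symm ⟨t k, Finset.mem_union_left _ (Finset.mem_image.2 ⟨k, Finset.mem_univ k, rfl⟩)⟩,
    fun r i => (ρ r).1 (e i), y, fun r => ?_, fun k => by simp, fun i => ?_⟩
  · have h0 : π (ρ r).1 = 0 := (ρ r).2
    rw [e.sum_comp (fun i : T => (ρ r).1 (i : N) • (i : N)),
      T.sum_coe_sort (fun i : N => (ρ r).1 i • i)]
    refine Eq.trans ?_ h0
    rw [Finsupp.linearCombination_apply, Finsupp.sum_of_support_subset (s := T)]
    · rfl
    · exact fun i hi => Finset.mem_union_right _ (Finset.mem_biUnion.2 ⟨r, Finset.mem_univ r, hi⟩)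
    · simp
  · have := congrArg (fun z => TensorProduct.rid R B ((Finsupp.lapply (e i : N)).lTensor B z)) hκ
    simp [ξ, Finsupp.single_apply, apply_ite, ite_smul] at this
    rw [this]
    exact Finset.sum_congr rfl fun k _ => by simp [e.symm_apply_eq, Subtype.ext_iff]

end Alg

/-- The module structure on functions induced by a map to the image of an object. -/
abbrev algVia {U : C} (a : Pt f.fn U) : Module (O_D.obj.obj (op a.1)) (O_C.obj.obj (op U)) :=
  Module.compHom _ ((rr O_C a.2).comp (sr f a.1))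

/-- Where formal combinations are evaluated, over a compatible choice of maps out of `V`. -/
def phi {U U' : C} (q : U' ⟶ U) (b : Pt f.fn U') (h : ∀ a : Pt f.fn U, Option (b.1 ⟶ a.1)) :
    letI := algVia f b
    Free f M U →+ (O_C.obj.obj (op U') ⊗[O_D.obj.obj (op b.1)] ModSite.sect M b.1) :=
  letI := algVia f b
  Finsupp.liftAddHom fun x : Gn f M U =>
    match h x.1 with
    | none => 0
    | some k => (AddMonoidHom.mk' (fun c : O_C.obj.obj (op U') => c ⊗ₜ[O_D.obj.obj (op b.1)] rs M k x.2)
        fun _ _ => TensorProduct.add_tmul _ _ _).comp (rr O_C q).toAddMonoidHom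

theorem phi_sgl {U U' : C} (q : U' ⟶ U) (b : Pt f.fn U') (h : ∀ a : Pt f.fn U, Option (b.1 ⟶ a.1))
    {V : D} (g : U ⟶ f.fn.obj V) (m : ModSite.sect M V) (c : O_C.obj.obj (op U)) (k : b.1 ⟶ V)
    (hk : h ⟨V, g⟩ = some k) :
    letI := algVia f b
    phi f M q b h (sgl f M g m c) = rr O_C q c ⊗ₜ[O_D.obj.obj (op b.1)] rs M k m := by
  refine (Finsupp.liftAddHom_apply_single _ _ _).trans ?_
  simp only [hk]
  rfl

/-- A formal combination is killed at every compatible choice for finitely many arrows. -/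
def Killed {U : C} (z : Free f M U) : Prop :=
  ∃ (n : ℕ) (A : Fin n → Arr f.fn U), ∀ (U' : C) (q : U' ⟶ U) (b : Pt f.fn U')
    (h : ∀ a : Pt f.fn U, Option (b.1 ⟶ a.1)), (∀ a k, h a = some k → b.2 ≫ f.fn.map k = q ≫ a.2) →
    (∀ i, ∃ k, h (A i).src = some k ∧ h (A i).tgt = some (k ≫ (A i).h)) →
    ∀ c : O_C.obj.obj (op U), phi f M q b h (c • z) = 0

theorem killed_of_mem {U : C} {z : Free f M U} (hz : z ∈ relMod f M U) : Killed f M z := by
  induction hz using Submodule.span_induction with
  | zero => exact ⟨0, fun i => i.elim0, fun U' q b h _ _ c => by rw [smul_zero, map_zero]⟩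
  | add x y _ _ hx hy =>
    obtain ⟨n, A, hA⟩ := hx
    obtain ⟨n', A', hA'⟩ := hy
    refine ⟨n + n', Fin.append A A', fun U' q b h h1 h2 c => ?_⟩
    rw [smul_add, map_add, hA U' q b h h1 (fun i => Eq.subst (motive := fun X : Arr f.fn U => ∃ k, h X.src = some k ∧ h X.tgt = some (k ≫ X.h))
        (Fin.append_left A A' i) (h2 _)) c,
      hA' U' q b h h1 (fun i => Eq.subst (motive := fun X : Arr f.fn U => ∃ k, h X.src = some k ∧ h X.tgt = some (k ≫ X.h))
        (Fin.append_right A A' i) (h2 _)) c, add_zero]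
  | smul a x _ hx =>
    obtain ⟨n, A, hA⟩ := hx
    exact ⟨n, A, fun U' q b h h1 h2 c => by rw [smul_smul]; exact hA U' q b h h1 h2 _⟩
  | mem x hx =>
    cases hx with
    | @add V g m m' =>
      refine ⟨1, fun _ => ⟨g, 𝟙 V⟩, fun U' q b h h1 h2 c => ?_⟩
      letI := algVia f b
      obtain ⟨k, hk, -⟩ := h2 0
      simp only [smul_sub, Finsupp.smul_single, smul_eq_mul, mul_one, map_sub, phi_sgl f M q b h g _ c k hk,
        map_add, TensorProduct.tmul_add]
      abel
    | @smul V g x m =>
      refine ⟨1, fun _ => ⟨g, 𝟙 V⟩, fun U' q b h h1 h2 c => ?_⟩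
      letI := algVia f b
      obtain ⟨k, hk, -⟩ := h2 0
      simp only [smul_sub, Finsupp.smul_single, smul_eq_mul, mul_one, map_sub, phi_sgl f M q b h g _ _ k hk, rs_smul]
      rw [← TensorProduct.smul_tmul, sub_eq_zero]
      congr 1
      show rr O_C b.2 (sr f b.1 (rr O_D k x)) * rr O_C q c = _
      rw [sr_natural', h1 _ k hk, map_mul, rr_rr, mul_comm]
    | @res V V' g e m =>
      refine ⟨1, fun _ => ⟨g, e⟩, fun U' q b h h1 h2 c => ?_⟩
      letI := algVia f b
      obtain ⟨k, hk, hk'⟩ := h2 0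
      simp only [smul_sub, Finsupp.smul_single, smul_eq_mul, mul_one, map_sub, phi_sgl f M q b h g _ c k hk,
        phi_sgl f M q b h (g ≫ f.fn.map e) _ c _ hk', rs_rs, sub_self]

/-- A vanishing combination of basic sections over one map comes locally from relations. -/
theorem exists_local_zero {U : C} (a : Pt f.fn U) {ι : Type u} [Fintype ι] (m : ι → ModSite.sect M a.1)
    (c : ι → O_C.obj.obj (op U)) (h0 : ∑ i, c i • beta f M a (m i) = 0) :
    ∃ S ∈ J U, ∀ ⦃U' : C⦄ (q : U' ⟶ U), S q →
      ∃ (V : D) (g : U' ⟶ f.fn.obj V) (k : V ⟶ a.1) (n p : ℕ) (t' : Fin n → ModSite.sect M V)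
        (idx : ι → Fin n) (r : Fin p → Fin n → O_D.obj.obj (op V)) (y : Fin p → O_C.obj.obj (op U')),
        g ≫ f.fn.map k = q ≫ a.2 ∧ (∀ l, ∑ i, r l i • t' i = 0) ∧ (∀ i, t' (idx i) = rs M k (m i)) ∧
          ∀ j, (∑ i, if idx i = j then rr O_C q (c i) else 0) = ∑ l, rr O_C g (sr f V (r l j)) * y l := by
  classical
  obtain ⟨V₀, g₀⟩ := a
  haveI : PreservesFiniteLimits (Groth.L10.SiteFr.pullT (J := J) K f.fn) := f.exact
  let z₀ : Free f M U := ∑ i, sgl f M g₀ (m i) (c i)
  have hz : toQs f M z₀ = 0 := by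
    have h := congrArg ((theta f M).val.app (op U)).hom h0
    rw [map_zero, map_sum] at h
    refine Eq.trans ?_ h
    rw [map_sum]
    refine Finset.sum_congr rfl fun i _ => ?_
    refine Eq.trans ?_ (map_smul ((theta f M).val.app (op U)).hom (c i) _).symm
    show _ = c i • ((theta f M).val.app (op U) (beta f M ⟨V₀, g₀⟩ (m i)))
    rw [theta_beta, ← map_smul, Finsupp.smul_single, smul_eq_mul, mul_one]
  have hz' : (CategoryTheory.toSheafify J (Qp f M).presheaf).app (op U) (mkQ f M z₀) =
      (CategoryTheory.toSheafify J (Qp f M).presheaf).app (op U) 0 := by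
    rw [map_zero]
    exact hz
  refine exists_sieve_bind _ (Presheaf.equalizerSieve_mem J
    (CategoryTheory.toSheafify J (Qp f M).presheaf) (X := op U) (mkQ f M z₀) 0 hz') fun U₁ q₁ hq₁ => ?_
  have hmem : rho f M q₁ z₀ ∈ relMod f M U₁ :=
    (Submodule.Quotient.mk_eq_zero _).1 ((show qres f M q₁ (Submodule.Quotient.mk z₀) = qres f M q₁ 0 from hq₁).trans
      (map_zero _))
  obtain ⟨n₀, A, hA⟩ := killed_of_mem f M hmem
  let a₁ : Pt f.fn U₁ := ⟨V₀, q₁ ≫ g₀⟩
  let G : Finset (Pt f.fn U₁) := insert a₁ (Finset.univ.image (fun i => (A i).src) ∪ Finset.univ.image (fun i => (A i).tgt))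
  have hs : ∀ i, (A i).src ∈ G := fun i =>
    Finset.mem_insert_of_mem (Finset.mem_union_left _ (Finset.mem_image_of_mem _ (Finset.mem_univ i)))
  have ht : ∀ i, (A i).tgt ∈ G := fun i =>
    Finset.mem_insert_of_mem (Finset.mem_union_right _ (Finset.mem_image_of_mem _ (Finset.mem_univ i)))
  obtain ⟨T, hT, hTd⟩ := exists_compat (J := J) K U₁ G A hs ht
  refine ⟨T, hT, fun U' r hr => ?_⟩
  obtain ⟨V, g, k, hk, hc⟩ := hTd r hr
  let h : ∀ a : Pt f.fn U₁, Option (V ⟶ a.1) := fun a => if ha : a ∈ G then some (k a ha) else none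
  have hsome : ∀ a (ha : a ∈ G), h a = some (k a ha) := fun a ha => dif_pos ha
  have h1 : ∀ a k', h a = some k' → g ≫ f.fn.map k' = r ≫ a.2 := by
    intro a k' e
    by_cases ha : a ∈ G
    · rw [hsome a ha, Option.some.injEq] at e
      rw [← e]
      exact hk a ha
    · simp [h, ha] at e
  have hzero := hA U' r ⟨V, g⟩ h h1 (fun i => ⟨k _ (hs i), hsome _ (hs i), by rw [hc i]; exact hsome _ (ht i)⟩) 1
  letI := algVia f (⟨V, g⟩ : Pt f.fn U')
  let k₀ : V ⟶ V₀ := k a₁ (Finset.mem_insert_self _ _)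
  have hk₀ : h a₁ = some k₀ := hsome _ _
  have hzero' : ∑ i, rr O_C (r ≫ q₁) (c i) ⊗ₜ[O_D.obj.obj (op V)] rs M k₀ (m i) = 0 := by
    refine Eq.trans ?_ hzero
    rw [one_smul, map_sum, map_sum]
    refine Finset.sum_congr rfl fun i _ => ?_
    rw [rho_sgl, phi_sgl f M r ⟨V, g⟩ h _ _ _ k₀ hk₀, rr_rr]
  obtain ⟨n, p, t', idx, rl, y, hr1, hr2, hr3⟩ := exists_relations' _ _ hzero'
  exact ⟨V, g, k₀, n, p, t', idx, rl, y, (hk a₁ _).trans (Category.assoc _ _ _).symm, hr1, hr2, hr3⟩

end Groth.L15.PullFlat
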