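import Groth.Agent.L15.PullFlat.Exact
import Mathlib.Algebra.MvPolynomial.CommRing
import Mathlib.RingTheory.Ideal.Quotient.Operations
import Mathlib.Algebra.Category.Ring.Limits
import Mathlib.Algebra.Category.Ring.FilteredColimits

/-! Sections of the pulled-back sheaf of rings, and relative flatness from flatness over it. -/

set_option autoImplicit false

universe u

open CategoryTheory CategoryTheory.Limits Opposite Groth.L15.FlatCrit

noncomputable section

namespace Groth.L15.PullFlat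

variable {C : Type u} [SmallCategory C] {J : GrothendieckTopology C} {D : Type u} [SmallCategory D]
  {K : GrothendieckTopology D} {O_C : Sheaf J CommRingCat.{u}} {O_D : Sheaf K CommRingCat.{u}}
  (f : ModSite.RMor O_C O_D)

/-- The unit of the pulled-back ring. -/
abbrev iR (V : D) : O_D.obj.obj (op V) →+* f.invRing.obj.obj (op (f.fn.obj V)) :=
  (((f.fn.sheafAdjunctionContinuous CommRingCat.{u} K J).unit.app O_D).hom.app (op V)).hom

theorem iR_natural {V W : D} (h : W ⟶ V) (x : O_D.obj.obj (op V)) :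
    iR f W (rr O_D h x) = rr f.invRing (f.fn.map h) (iR f V x) :=
  congr($(((f.fn.sheafAdjunctionContinuous CommRingCat.{u} K J).unit.app O_D).hom.naturality h.op) x)

theorem iR_natural' {V W : D} (h : W ⟶ V) {U : C} (g : U ⟶ f.fn.obj W) (x : O_D.obj.obj (op V)) :
    rr f.invRing g (iR f W (rr O_D h x)) = rr f.invRing (g ≫ f.fn.map h) (iR f V x) := by
  rw [iR_natural, rr_rr]

theorem invSharp_iR {U : C} {V : D} (g : U ⟶ f.fn.obj V) (x : O_D.obj.obj (op V)) :
    f.invSharp.hom.app (op U) (rr f.invRing g (iR f V x)) = rr O_C g (sr f V x) := by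
  have e : (f.fn.sheafAdjunctionContinuous CommRingCat.{u} K J).unit.app O_D ≫
      (f.fn.sheafPushforwardContinuous CommRingCat.{u} K J).map f.invSharp = f.sharp :=
    ((f.fn.sheafAdjunctionContinuous CommRingCat.{u} K J).homEquiv_unit O_D O_C f.invSharp).symm.trans
      (Equiv.apply_symm_apply _ _)
  refine (congr($(f.invSharp.hom.naturality g.op) (iR f V x))).trans ?_
  exact congrArg (rr O_C g) congr(($e).hom.app (op V) x)

/-- Symbols for functions on the target site. -/
abbrev GnR (U : C) := Σ a : Pt f.fn U, O_D.obj.obj (op a.1)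

/-- Polynomials in the symbols. -/
abbrev PolR (U : C) := MvPolynomial (GnR f U) ℤ

/-- A variable. -/
abbrev vX {U : C} {V : D} (g : U ⟶ f.fn.obj V) (x : O_D.obj.obj (op V)) : PolR f U := MvPolynomial.X ⟨⟨V, g⟩, x⟩

/-- The relations between symbols of functions. -/
inductive IsRelR {U : C} : PolR f U → Prop
  | add {V : D} (g : U ⟶ f.fn.obj V) (x x' : O_D.obj.obj (op V)) : IsRelR (vX f g (x + x') - vX f g x - vX f g x')
  | mul {V : D} (g : U ⟶ f.fn.obj V) (x x' : O_D.obj.obj (op V)) : IsRelR (vX f g (x * x') - vX f g x * vX f g x')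
  | one {V : D} (g : U ⟶ f.fn.obj V) : IsRelR (vX f g 1 - 1)
  | res {V V' : D} (g : U ⟶ f.fn.obj V') (h : V' ⟶ V) (x : O_D.obj.obj (op V)) :
      IsRelR (vX f g (rr O_D h x) - vX f (g ≫ f.fn.map h) x)

/-- The ideal of relations. -/
def relId (U : C) : Ideal (PolR f U) := Ideal.span {p | IsRelR f p}

/-- Restriction of symbols of functions. -/
def resR {U U' : C} (q : U' ⟶ U) (x : GnR f U) : GnR f U' := ⟨x.1.res q, x.2⟩

/-- Restriction of polynomials. -/
def rhoR {U U' : C} (q : U' ⟶ U) : PolR f U →+* PolR f U' := (MvPolynomial.rename (resR f q)).toRingHom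

theorem rhoR_vX {U U' : C} (q : U' ⟶ U) {V : D} (g : U ⟶ f.fn.obj V) (x : O_D.obj.obj (op V)) :
    rhoR f q (vX f g x) = vX f (q ≫ g) x :=
  MvPolynomial.rename_X _ _

theorem rhoR_relId {U U' : C} (q : U' ⟶ U) : relId f U ≤ (relId f U').comap (rhoR f q) := by
  refine Ideal.span_le.2 fun p hp => ?_
  show rhoR f q p ∈ relId f U'
  refine Ideal.subset_span ?_
  cases hp with
  | add g x x' => simp only [map_sub, rhoR_vX]; exact IsRelR.add _ x x'
  | mul g x x' => simp only [map_sub, map_mul, rhoR_vX]; exact IsRelR.mul _ x x'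
  | one g => simp only [map_sub, map_one, rhoR_vX]; exact IsRelR.one _
  | res g h x => simp only [map_sub, rhoR_vX]; rw [← Category.assoc]; exact IsRelR.res _ h x

theorem rhoR_id (U : C) : rhoR f (𝟙 U) = RingHom.id _ :=
  MvPolynomial.ringHom_ext (fun n => by simp [rhoR]) fun x => by
    obtain ⟨⟨V, g⟩, y⟩ := x
    rw [show MvPolynomial.X _ = vX f g y from rfl, rhoR_vX, Category.id_comp]
    rfl

theorem rhoR_rhoR {U U' U'' : C} (q : U' ⟶ U) (r : U'' ⟶ U') :
    (rhoR f r).comp (rhoR f q) = rhoR f (r ≫ q) :=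
  MvPolynomial.ringHom_ext (fun n => by simp [rhoR]) fun x => by
    obtain ⟨⟨V, g⟩, y⟩ := x
    rw [show MvPolynomial.X _ = vX f g y from rfl, RingHom.comp_apply, rhoR_vX, rhoR_vX, rhoR_vX, Category.assoc]

/-- The generators-and-relations presheaf of rings. -/
def Lp : Cᵒᵖ ⥤ CommRingCat.{u} where
  obj U := CommRingCat.of (PolR f U.unop ⧸ relId f U.unop)
  map q := CommRingCat.ofHom (Ideal.quotientMap _ (rhoR f q.unop) (rhoR_relId f q.unop))
  map_id U := CommRingCat.hom_ext (Ideal.Quotient.ringHom_ext (RingHom.ext fun p => by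
    show Ideal.Quotient.mk _ (rhoR f (𝟙 _) p) = _
    rw [rhoR_id]
    rfl))
  map_comp q r := CommRingCat.hom_ext (Ideal.Quotient.ringHom_ext (RingHom.ext fun p => by
    show Ideal.Quotient.mk _ (rhoR f (r.unop ≫ q.unop) p) = _
    rw [← rhoR_rhoR]
    rfl))

/-- A polynomial as a section of the presheaf. -/
abbrev mkL {U : C} (p : PolR f U) : (Lp f).obj (op U) := Ideal.Quotient.mk (relId f U) p

/-- The sheaf of rings given by generators and relations. -/
abbrev Ls : Sheaf J CommRingCat.{u} := (presheafToSheaf J CommRingCat.{u}).obj (Lp f)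

/-- A polynomial as a section of the sheaf. -/
def toLs {U : C} : PolR f U →+* (Ls f).obj.obj (op U) :=
  ((CategoryTheory.toSheafify J (Lp f)).app (op U)).hom.comp (Ideal.Quotient.mk (relId f U))

theorem toLs_res {U U' : C} (q : U' ⟶ U) (p : PolR f U) : rr (Ls f) q (toLs f p) = toLs f (rhoR f q p) :=
  congr($((CategoryTheory.toSheafify J (Lp f)).naturality q.op) (mkL f p)).symm

theorem toLs_rel {U : C} {p : PolR f U} (hp : IsRelR f p) : toLs f p = 0 := by
  show ((CategoryTheory.toSheafify J (Lp f)).app (op U)).hom (Ideal.Quotient.mk (relId f U) p) = 0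
  refine (congrArg ((CategoryTheory.toSheafify J (Lp f)).app (op U)).hom ?_).trans (map_zero _)
  exact Ideal.Quotient.eq_zero_iff_mem.2 (Ideal.subset_span hp)

/-- The tautological map. -/
def iotaL : O_D ⟶ (f.fn.sheafPushforwardContinuous CommRingCat.{u} K J).obj (Ls f) :=
  ⟨{ app := fun V => CommRingCat.ofHom
      { toFun := fun x : O_D.obj.obj (op V.unop) => (toLs f (vX f (𝟙 (f.fn.obj V.unop)) x) : (Ls f).obj.obj (op (f.fn.obj V.unop)))
        map_one' := by
          have h := toLs_rel f (IsRelR.one (f := f) (𝟙 (f.fn.obj V.unop)))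
          rw [map_sub, map_one, sub_eq_zero] at h
          exact h
        map_mul' := fun x x' => by
          have h := toLs_rel f (IsRelR.mul (𝟙 (f.fn.obj V.unop)) x x')
          rw [map_sub, map_mul, sub_eq_zero] at h
          exact h
        map_zero' := by
          have h := toLs_rel f (IsRelR.add (f := f) (𝟙 (f.fn.obj V.unop)) 0 0)
          rw [add_zero, map_sub, map_sub, sub_self, zero_sub, neg_eq_zero] at h
          exact h
        map_add' := fun x x' => by
          have h := toLs_rel f (IsRelR.add (𝟙 (f.fn.obj V.unop)) x x')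
          rw [map_sub, map_sub, sub_sub, sub_eq_zero] at h
          exact h }
     naturality := fun V W h => CommRingCat.hom_ext (RingHom.ext fun (x : O_D.obj.obj (op V.unop)) => by
       show toLs f (vX f (𝟙 (f.fn.obj W.unop)) (rr O_D h.unop x)) =
         rr (Ls f) (f.fn.map h.unop) (toLs f (vX f (𝟙 (f.fn.obj V.unop)) x))
       rw [toLs_res, rhoR_vX, Category.comp_id]
       have h' := toLs_rel f (IsRelR.res (𝟙 (f.fn.obj W.unop)) h.unop x)
       rw [map_sub, sub_eq_zero, Category.id_comp] at h'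
       exact h') }⟩

/-- The comparison from the pulled-back ring. -/
def thetaL : f.invRing ⟶ Ls f :=
  ((f.fn.sheafAdjunctionContinuous CommRingCat.{u} K J).homEquiv O_D (Ls f)).symm (iotaL f)

theorem thetaL_iR {U : C} {V : D} (g : U ⟶ f.fn.obj V) (x : O_D.obj.obj (op V)) :
    (thetaL f).hom.app (op U) (rr f.invRing g (iR f V x)) = toLs f (vX f g x) := by
  have e : (f.fn.sheafAdjunctionContinuous CommRingCat.{u} K J).unit.app O_D ≫
      (f.fn.sheafPushforwardContinuous CommRingCat.{u} K J).map (thetaL f) = iotaL f :=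
    ((f.fn.sheafAdjunctionContinuous CommRingCat.{u} K J).homEquiv_unit O_D (Ls f) (thetaL f)).symm.trans
      (Equiv.apply_symm_apply _ _)
  refine (congr($((thetaL f).hom.naturality g.op) (iR f V x))).trans ?_
  show rr (Ls f) g ((thetaL f).hom.app (op (f.fn.obj V)) (iR f V x)) = _
  rw [show (thetaL f).hom.app (op (f.fn.obj V)) (iR f V x) = toLs f (vX f (𝟙 (f.fn.obj V)) x) from
    congr(($e).hom.app (op V) x), toLs_res, rhoR_vX, Category.comp_id]

/-- The value of a polynomial. -/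
def evR (U : C) : PolR f U →+* f.invRing.obj.obj (op U) :=
  MvPolynomial.eval₂Hom (Int.castRingHom _) fun x => rr f.invRing x.1.2 (iR f x.1.1 x.2)

theorem evR_vX {U : C} {V : D} (g : U ⟶ f.fn.obj V) (x : O_D.obj.obj (op V)) :
    evR f U (vX f g x) = rr f.invRing g (iR f V x) :=
  MvPolynomial.eval₂Hom_X' _ _ _

theorem evR_rhoR {U U' : C} (q : U' ⟶ U) : (evR f U').comp (rhoR f q) = (rr f.invRing q).comp (evR f U) :=
  MvPolynomial.ringHom_ext (fun n => by simp) fun x => by
    obtain ⟨⟨V, g⟩, y⟩ := x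
    rw [show MvPolynomial.X _ = vX f g y from rfl, RingHom.comp_apply, RingHom.comp_apply, rhoR_vX, evR_vX, evR_vX, rr_rr]

theorem relId_le_ker (U : C) : relId f U ≤ RingHom.ker (evR f U) := by
  refine Ideal.span_le.2 fun p hp => ?_
  show evR f U p = 0
  cases hp with
  | add g x x' => simp only [map_sub, evR_vX, map_add]; abel
  | mul g x x' => simp only [map_sub, map_mul, evR_vX, sub_self]
  | one g => simp only [map_sub, evR_vX, map_one, sub_self]
  | res g h x => simp only [map_sub, evR_vX, iR_natural', sub_self]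

/-- The evaluation, on presheaves. -/
def psiLp : Lp f ⟶ f.invRing.obj where
  app U := CommRingCat.ofHom (Ideal.Quotient.lift (relId f U.unop) (evR f U.unop) fun _ hp => relId_le_ker f U.unop hp)
  naturality {U U'} q := CommRingCat.hom_ext (Ideal.Quotient.ringHom_ext (evR_rhoR f q.unop))

/-- The evaluation. -/
def psiL : Ls f ⟶ f.invRing := ((sheafificationAdjunction J CommRingCat.{u}).homEquiv (Lp f) f.invRing).symm (psiLp f)

theorem psiL_toLs {U : C} (p : PolR f U) : (psiL f).hom.app (op U) (toLs f p) = evR f U p := by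
  have e : CategoryTheory.toSheafify J (Lp f) ≫ (psiL f).hom = psiLp f :=
    ((sheafificationAdjunction J CommRingCat.{u}).homEquiv_unit (Lp f) f.invRing (psiL f)).symm.trans
      (Equiv.apply_symm_apply _ _)
  exact congr(($e).app (op U) (mkL f p))

theorem thetaL_psiL : thetaL f ≫ psiL f = 𝟙 _ := by
  apply ((f.fn.sheafAdjunctionContinuous CommRingCat.{u} K J).homEquiv O_D f.invRing).injective
  rw [Adjunction.homEquiv_naturality_right, thetaL, Equiv.apply_symm_apply, Adjunction.homEquiv_id]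
  refine Sheaf.hom_ext (NatTrans.ext (funext fun V => CommRingCat.hom_ext (RingHom.ext fun x => ?_)))
  refine (psiL_toLs f (vX f (𝟙 (f.fn.obj V.unop)) x)).trans ((evR_vX f _ _).trans ?_)
  show rr f.invRing (𝟙 _) _ = _
  simp [rr]
  rfl

/-- Evaluation over a choice of maps. -/
def phiR {U : C} (V : D) (h : ∀ a : Pt f.fn U, Option (V ⟶ a.1)) : PolR f U →+* O_D.obj.obj (op V) :=
  MvPolynomial.eval₂Hom (Int.castRingHom _) fun x =>
    match h x.1 with
    | none => 0
    | some k => rr O_D k x.2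

theorem phiR_vX {U : C} (V₀ : D) (h : ∀ a : Pt f.fn U, Option (V₀ ⟶ a.1)) {V : D} (g : U ⟶ f.fn.obj V)
    (x : O_D.obj.obj (op V)) (k : V₀ ⟶ V) (hk : h ⟨V, g⟩ = some k) : phiR f V₀ h (vX f g x) = rr O_D k x := by
  refine (MvPolynomial.eval₂Hom_X' _ _ _).trans ?_
  simp only [hk]

/-- A polynomial killed at every compatible choice for finitely many arrows. -/
def KilledR {U : C} (p : PolR f U) : Prop :=
  ∃ (n : ℕ) (A : Fin n → Arr f.fn U), ∀ (V : D) (h : ∀ a : Pt f.fn U, Option (V ⟶ a.1)),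
    (∀ i, ∃ k, h (A i).src = some k ∧ h (A i).tgt = some (k ≫ (A i).h)) → phiR f V h p = 0

theorem killedR_of_mem {U : C} {p : PolR f U} (hp : p ∈ relId f U) : KilledR f p := by
  induction hp using Submodule.span_induction with
  | zero => exact ⟨0, fun i => i.elim0, fun V h _ => map_zero _⟩
  | add x y _ _ hx hy =>
    obtain ⟨n, A, hA⟩ := hx
    obtain ⟨n', A', hA'⟩ := hy
    refine ⟨n + n', Fin.append A A', fun V h h2 => ?_⟩
    rw [map_add, hA V h (fun i => Eq.subst (motive := fun X : Arr f.fn U => ∃ k, h X.src = some k ∧ h X.tgt = some (k ≫ X.h))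
        (Fin.append_left A A' i) (h2 _)),
      hA' V h (fun i => Eq.subst (motive := fun X : Arr f.fn U => ∃ k, h X.src = some k ∧ h X.tgt = some (k ≫ X.h))
        (Fin.append_right A A' i) (h2 _)), add_zero]
  | smul a x _ hx =>
    obtain ⟨n, A, hA⟩ := hx
    exact ⟨n, A, fun V h h2 => by rw [smul_eq_mul, map_mul, hA V h h2, mul_zero]⟩
  | mem x hx =>
    cases hx with
    | @add V g x x' =>
      refine ⟨1, fun _ => ⟨g, 𝟙 V⟩, fun V₀ h h2 => ?_⟩
      obtain ⟨k, hk, -⟩ := h2 0
      simp only [map_sub, phiR_vX f V₀ h g _ k hk, map_add]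
      abel
    | @mul V g x x' =>
      refine ⟨1, fun _ => ⟨g, 𝟙 V⟩, fun V₀ h h2 => ?_⟩
      obtain ⟨k, hk, -⟩ := h2 0
      simp only [map_sub, map_mul, phiR_vX f V₀ h g _ k hk, sub_self]
    | @one V g =>
      refine ⟨1, fun _ => ⟨g, 𝟙 V⟩, fun V₀ h h2 => ?_⟩
      obtain ⟨k, hk, -⟩ := h2 0
      simp only [map_sub, map_one, phiR_vX f V₀ h g _ k hk, sub_self]
    | @res V V' g e x =>
      refine ⟨1, fun _ => ⟨g, e⟩, fun V₀ h h2 => ?_⟩
      obtain ⟨k, hk, hk'⟩ := h2 0
      simp only [map_sub, phiR_vX f V₀ h g _ k hk, phiR_vX f V₀ h (g ≫ f.fn.map e) x _ hk', rr_rr, sub_self]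

/-- A function vanishing in the pulled-back ring vanishes after local refinement. -/
theorem exists_iR_zero {U : C} (a : Pt f.fn U) {N : ℕ} (z : Fin N → O_D.obj.obj (op a.1))
    (hz : ∀ i, rr f.invRing a.2 (iR f a.1 (z i)) = 0) :
    ∃ S ∈ J U, ∀ ⦃U' : C⦄ (q : U' ⟶ U), S q → ∃ (V : D) (g : U' ⟶ f.fn.obj V) (k : V ⟶ a.1),
      g ≫ f.fn.map k = q ≫ a.2 ∧ ∀ i, rr O_D k (z i) = 0 := by
  classical
  haveI : PreservesFiniteLimits (Groth.L10.SiteFr.pullT (J := J) K f.fn) := f.exact
  induction N with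
  | zero => exact ⟨⊤, J.top_mem U, fun U' q _ => ⟨a.1, q ≫ a.2, 𝟙 _, by simp, fun i => i.elim0⟩⟩
  | succ N ih =>
    obtain ⟨S, hS, hSd⟩ := ih (fun i => z i.castSucc) (fun i => hz _)
    refine exists_sieve_bind _ hS fun U₁ q₁ hq₁ => ?_
    obtain ⟨V, g, k, hk, hzk⟩ := hSd q₁ hq₁
    have h0 : toLs f (vX f g (rr O_D k (z (Fin.last N)))) = 0 := by
      rw [← thetaL_iR, iR_natural', hk, ← rr_rr, hz, map_zero]
      exact map_zero ((thetaL f).hom.app (op U₁)).hom
    have h0' : (CategoryTheory.toSheafify J (Lp f)).app (op U₁) (mkL f (vX f g (rr O_D k (z (Fin.last N))))) =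
        (CategoryTheory.toSheafify J (Lp f)).app (op U₁) 0 := by
      rw [map_zero]
      exact h0
    refine exists_sieve_bind (fun U' (q : U' ⟶ U₁) => ∃ (V' : D) (g' : U' ⟶ f.fn.obj V') (k' : V' ⟶ a.1),
        g' ≫ f.fn.map k' = (q ≫ q₁) ≫ a.2 ∧ ∀ i, rr O_D k' (z i) = 0)
      (Presheaf.equalizerSieve_mem J (CategoryTheory.toSheafify J (Lp f)) (X := op U₁)
        (mkL f (vX f g (rr O_D k (z (Fin.last N))))) 0 h0') fun U₂ q₂ hq₂ => ?_
    have hmem : rhoR f q₂ (vX f g (rr O_D k (z (Fin.last N)))) ∈ relId f U₂ :=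
      Ideal.Quotient.eq_zero_iff_mem.1
        ((show (Lp f).map q₂.op (mkL f (vX f g (rr O_D k (z (Fin.last N))))) = (Lp f).map q₂.op 0 from hq₂).trans
          (map_zero _))
    rw [rhoR_vX] at hmem
    obtain ⟨n, A, hA⟩ := killedR_of_mem f hmem
    let a₂ : Pt f.fn U₂ := ⟨V, q₂ ≫ g⟩
    let G : Finset (Pt f.fn U₂) := insert a₂ (Finset.univ.image (fun i => (A i).src) ∪ Finset.univ.image (fun i => (A i).tgt))
    have hs : ∀ i, (A i).src ∈ G := fun i =>
      Finset.mem_insert_of_mem (Finset.mem_union_left _ (Finset.mem_image_of_mem _ (Finset.mem_univ i)))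
    have ht : ∀ i, (A i).tgt ∈ G := fun i =>
      Finset.mem_insert_of_mem (Finset.mem_union_right _ (Finset.mem_image_of_mem _ (Finset.mem_univ i)))
    obtain ⟨T, hT, hTd⟩ := exists_compat (J := J) K U₂ G A hs ht
    refine ⟨T, hT, fun U₃ q₃ hq₃ => ?_⟩
    obtain ⟨V₃, g₃, kk, hkk, hc⟩ := hTd q₃ hq₃
    let h : ∀ b : Pt f.fn U₂, Option (V₃ ⟶ b.1) := fun b => if hb : b ∈ G then some (kk b hb) else none
    have hsome : ∀ b (hb : b ∈ G), h b = some (kk b hb) := fun b hb => dif_pos hb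
    have hzero := hA V₃ h (fun i => ⟨kk _ (hs i), hsome _ (hs i), by rw [hc i]; exact hsome _ (ht i)⟩)
    let k₃ : V₃ ⟶ V := kk a₂ (Finset.mem_insert_self _ _)
    rw [phiR_vX f V₃ h (q₂ ≫ g) _ k₃ (hsome _ _), rr_rr] at hzero
    refine ⟨V₃, g₃, k₃ ≫ k, ?_, fun i => ?_⟩
    · rw [Functor.map_comp, ← Category.assoc, show g₃ ≫ f.fn.map k₃ = q₃ ≫ q₂ ≫ g from hkk a₂ _, Category.assoc,
        Category.assoc, hk]
      simp only [Category.assoc]
    · induction i using Fin.lastCases with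
      | last => exact hzero
      | cast i => rw [← rr_rr, hzk, map_zero]

/-- Finitely many sections of the pulled-back ring locally come from one object of the target site. -/
theorem exists_iR_lift {U : C} (a : Pt f.fn U) {N : ℕ} (b : Fin N → f.invRing.obj.obj (op U)) :
    ∃ S ∈ J U, ∀ ⦃U' : C⦄ (q : U' ⟶ U), S q → ∃ (V : D) (g : U' ⟶ f.fn.obj V) (k : V ⟶ a.1)
      (x : Fin N → O_D.obj.obj (op V)), g ≫ f.fn.map k = q ≫ a.2 ∧
        ∀ i, rr f.invRing q (b i) = rr f.invRing g (iR f V (x i)) := by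
  classical
  haveI : PreservesFiniteLimits (Groth.L10.SiteFr.pullT (J := J) K f.fn) := f.exact
  induction N with
  | zero => exact ⟨⊤, J.top_mem U, fun U' q _ => ⟨a.1, q ≫ a.2, 𝟙 _, fun i => i.elim0, by simp, fun i => i.elim0⟩⟩
  | succ N ih =>
    obtain ⟨S, hS, hSd⟩ := ih (fun i => b i.castSucc)
    refine exists_sieve_bind _ hS fun U₁ q₁ hq₁ => ?_
    obtain ⟨V, g, k, x, hk, hx⟩ := hSd q₁ hq₁
    let bl := rr f.invRing q₁ (b (Fin.last N))
    refine exists_sieve_bind (fun U' (q : U' ⟶ U₁) => ∃ (V' : D) (g' : U' ⟶ f.fn.obj V') (k' : V' ⟶ a.1)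
        (x : Fin (N + 1) → O_D.obj.obj (op V')), g' ≫ f.fn.map k' = (q ≫ q₁) ≫ a.2 ∧
          ∀ i, rr f.invRing (q ≫ q₁) (b i) = rr f.invRing g' (iR f V' (x i)))
      (Presheaf.imageSieve_mem J (CategoryTheory.toSheafify J (Lp f)) (U := op U₁)
        ((thetaL f).hom.app (op U₁) bl)) fun U₂ q₂ hq₂ => ?_
    obtain ⟨w, hw⟩ := hq₂
    obtain ⟨p, rfl⟩ := Ideal.Quotient.mk_surjective w
    have hb : rr f.invRing q₂ bl = evR f U₂ p := by
      rw [← psiL_toLs]
      refine Eq.trans ?_ (congrArg ((psiL f).hom.app (op U₂)) hw).symm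
      refine Eq.trans ?_ (congr($((psiL f).hom.naturality q₂.op) ((thetaL f).hom.app (op U₁) bl))).symm
      exact congrArg (rr f.invRing q₂) congr(($(thetaL_psiL f)).hom.app (op U₁) bl).symm
    let a₂ : Pt f.fn U₂ := ⟨V, q₂ ≫ g⟩
    let G : Finset (Pt f.fn U₂) := insert a₂ (p.vars.image fun y => y.1)
    obtain ⟨T, hT, hTd⟩ := exists_cone (J := J) K U₂ G
    refine ⟨T, hT, fun U₃ q₃ hq₃ => ?_⟩
    obtain ⟨V₃, g₃, kk, hkk⟩ := hTd q₃ hq₃
    let k₃ : V₃ ⟶ V := kk a₂ (Finset.mem_insert_self _ _)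
    let val : GnR f U₂ → O_D.obj.obj (op V₃) := fun y => if hy : y.1 ∈ G then rr O_D (kk y.1 hy) y.2 else 0
    refine ⟨V₃, g₃, k₃ ≫ k, Fin.lastCases (MvPolynomial.eval₂Hom (Int.castRingHom _) val p) (fun i => rr O_D k₃ (x i)),
      ?_, fun i => ?_⟩
    · rw [Functor.map_comp, ← Category.assoc, show g₃ ≫ f.fn.map k₃ = q₃ ≫ q₂ ≫ g from hkk a₂ _, Category.assoc,
        Category.assoc, hk]
      simp only [Category.assoc]
    · induction i using Fin.lastCases with
      | last =>
        simp only [Fin.lastCases_last]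
        rw [← rr_rr f.invRing q₁ (q₃ ≫ q₂), ← rr_rr f.invRing q₂ q₃, hb, evR, ← RingHom.comp_apply,
          ← RingHom.comp_apply (rr f.invRing g₃), ← RingHom.comp_apply ((rr f.invRing g₃).comp (iR f V₃)),
          MvPolynomial.comp_eval₂Hom, MvPolynomial.comp_eval₂Hom]
        refine MvPolynomial.eval₂Hom_congr' (RingHom.ext_int _ _) (fun y hy _ => ?_) rfl
        have hyG : y.1 ∈ G := Finset.mem_insert_of_mem (Finset.mem_image_of_mem _ hy)
        show rr f.invRing q₃ (rr f.invRing y.1.2 (iR f y.1.1 y.2)) = rr f.invRing g₃ (iR f V₃ (val y))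
        rw [show val y = rr O_D (kk y.1 hyG) y.2 from dif_pos hyG, iR_natural', hkk _ hyG, rr_rr]
      | cast i =>
        simp only [Fin.lastCases_castSucc]
        rw [← rr_rr f.invRing q₁ (q₃ ≫ q₂), hx, iR_natural', rr_rr,
          show g₃ ≫ f.fn.map k₃ = q₃ ≫ q₂ ≫ g from hkk a₂ _, Category.assoc]

/-- Relative flatness from locally trivial relations over the pulled-back ring. -/
theorem relFlat_of_invRing (F : ModSite.Mod O_C)
    (hF : HasTrivialRelations ((SheafOfModules.restrictScalars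
      ((sheafCompose J (forget₂ CommRingCat.{u} RingCat.{u})).map f.invSharp)).obj F)) :
    RelFlat f F := by
  classical
  let G := (SheafOfModules.restrictScalars
    ((sheafCompose J (forget₂ CommRingCat.{u} RingCat.{u})).map f.invSharp)).obj F
  intro U a p n r y hy
  let y' : Fin p → ModSite.sect G U := y
  have hrel : ∀ i : Fin n, ∑ l, rr f.invRing a.2 (iR f a.1 (r l i)) • y' l = 0 := fun i => by
    refine Eq.trans (Finset.sum_congr rfl fun l _ => ?_) (hy i)
    exact congrArg (fun z : O_C.obj.obj (op U) => z • y l) (invSharp_iR f a.2 (r l i))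
  obtain ⟨S, hS, hSd⟩ := trivial_relations G hF n U p (fun i l => rr f.invRing a.2 (iR f a.1 (r l i))) y' hrel
  refine exists_sieve_bind _ hS fun U₁ q₁ hq₁ => ?_
  obtain ⟨m, T, c, hc1, hc2⟩ := hSd q₁ hq₁
  obtain ⟨S₂, hS₂, hS₂d⟩ := exists_iR_lift f (a.res q₁)
    (fun i : Fin (p * m) => c (finProdFinEquiv.symm i).1 (finProdFinEquiv.symm i).2)
  refine exists_sieve_bind _ hS₂ fun U₂ q₂ hq₂ => ?_
  obtain ⟨V, g, k, x, hk, hx⟩ := hS₂d q₂ hq₂
  have hkq : g ≫ f.fn.map k = (q₂ ≫ q₁) ≫ a.2 := hk.trans (Category.assoc _ _ _).symm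
  have hx' : ∀ l e, rr f.invRing q₂ (c l e) = rr f.invRing g (iR f V (x (finProdFinEquiv (l, e)))) := fun l e => by
    rw [← hx]
    simp
  obtain ⟨S₃, hS₃, hS₃d⟩ := exists_iR_zero f (⟨V, g⟩ : Pt f.fn U₂)
    (fun i : Fin (n * m) => ∑ l, rr O_D k (r l (finProdFinEquiv.symm i).1) *
      x (finProdFinEquiv (l, (finProdFinEquiv.symm i).2))) fun i => by
        rw [map_sum, map_sum]
        have h := congrArg (rr f.invRing q₂) (hc2 (finProdFinEquiv.symm i).1 (finProdFinEquiv.symm i).2)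
        rw [map_sum, map_zero] at h
        refine Eq.trans (Finset.sum_congr rfl fun l _ => ?_) h
        rw [map_mul, map_mul, map_mul, hx', iR_natural', hkq, rr_rr, rr_rr, mul_comm]
  refine ⟨S₃, hS₃, fun U₃ q₃ hq₃ => ?_⟩
  obtain ⟨V₃, g₃, k₃, hk₃, hz₃⟩ := hS₃d q₃ hq₃
  refine ⟨V₃, g₃, k₃ ≫ k, m, fun l e => rr O_D k₃ (x (finProdFinEquiv (l, e))), fun e => rs F (q₃ ≫ q₂) (T e),
    ?_, fun l => ?_, fun i e => ?_⟩
  · rw [Functor.map_comp, ← Category.assoc, hk₃, Category.assoc, hkq]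
    simp only [Category.assoc]
  · have h := congrArg (rs G (q₃ ≫ q₂)) (hc1 l)
    rw [rs_rs, map_sum] at h
    refine h.trans (Finset.sum_congr rfl fun e _ => ?_)
    rw [rs_smul, ← rr_rr f.invRing q₂ q₃, hx', rr_rr]
    refine congrArg (fun z : O_C.obj.obj (op U₃) => z • rs F (q₃ ≫ q₂) (T e)) ?_
    refine (invSharp_iR f (q₃ ≫ g) _).trans ?_
    rw [sr_natural', hk₃]
  · refine Eq.trans (Finset.sum_congr rfl fun l _ => ?_) ((map_sum (rr O_D k₃) _ _).symm.trans (hz₃ (finProdFinEquiv (i, e))))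
    simp only [Equiv.symm_apply_apply, map_mul, rr_rr]

end Groth.L15.PullFlat
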